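import Cfsg.Agent.R2.H14.Fr.E6Ord_m3
import Cfsg.Agent.Prune
set_option linter.all false
prune_inst 0x7f00000000000000000000000000000000000000000000000000000000000000000000000000000000000000000000000000000000000000000000000000000000000000000000000000000000000000003fffffffffffffffffffffffffffbeffbdffffffff
open scoped Cfsg.Agent.FastGrp

/-!
# Boxes X3, F9 of S5934 (helper14)
-/

set_option autoImplicit false

namespace Cfsg.Agent.R2.H14.Fr

open Cfsg Subgroup Cfsg.Agent.Schreier.Basic Cfsg.Agent.OrdDiv Cfsg.Agent.R2.H27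
open scoped commutatorElement

theorem elt_psl28 {S : Type} [Group S] (h : Real (.psl 2 8) S) : ∃ g : S, orderOf g = 9 := by
  obtain ⟨F, _, _, hF, e⟩ := h
  exact Cfsg.Agent.H290.Wei.exists_congr (Cfsg.Agent.H72.AdjPSL.exists_order_of_block (F := F) (n := 2) (a := 2) (r := 9)
    (Cfsg.Agent.H72.AdjPSL.hasBlock_singer (by omega) (by rw [hF]; norm_num) (by rw [hF]; norm_num))
    (by norm_num) le_rfl (by rw [hF]; norm_num) 9 dvd_rfl) e

/-- the simple group of order 504 has elements of order 9 -/
theorem exists_nine {S : Type} [Group S] (hs : IsSimpleGroup S) (hc : Nat.card S = oL2e) : ∃ g : S, orderOf g = 9 := by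
  have : Finite S := Nat.finite_of_card_ne_zero (by rw [hc]; decide)
  have hna : ¬ IsMulCommutative S := not_comm_of_card (by rw [hc]; exact not_prime_of_two (by decide) (by decide))
  obtain ⟨x, hx, hr, hcx⟩ := exists_tab hna (by rw [hc]; decide +kernel)
  have h1 := tab_all (P := fun x => x.2 != oL2e || decide (x.1 = .psl 2 8)) (by decide +kernel) hx
  rw [Bool.or_eq_true, bne_iff_ne, decide_eq_true_eq] at h1
  have h2 := h1.resolve_left fun hne => hne (hcx.symm.trans hc)
  rw [h2] at hr
  exact elt_psl28 hr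

/-- **Box X3.** -/
theorem boxX3 : BoxX3 := by
  intro G _ X Y hsX hcX hsY hcY hYX
  have hfX : Finite ↥X := Nat.finite_of_card_ne_zero (by rw [hcX]; decide)
  obtain ⟨b, hb⟩ := exists_nine hsY hcY
  have : Fact (Nat.Prime 13) := ⟨by norm_num⟩
  obtain ⟨a, ha⟩ := exists_prime_orderOf_dvd_card' (G := ↥X) 13 (by rw [hcX]; decide)
  have hab : Commute (a : G) (b : G) := mem_centralizer_iff.1 (hYX b.2) a a.2
  refine ⟨a * b, mul_mem (mem_sup_left a.2) (mem_sup_right b.2), ?_⟩
  rw [order_mul hab (orderOf_coe a ▸ ha) (orderOf_coe b ▸ hb) (by norm_num)]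

variable {M : Type} [Group M]

/-- **Box F9.** -/
theorem boxF9 (hX2 : X2) : BoxF9 := by
  intro M _ h X Y hsX hcX hsY hcY hYX hCC h17
  have := h.fin
  obtain ⟨hq, hcz, hz⟩ := simple_qs hsX hcX (by decide +kernel) (by decide +kernel)
  obtain ⟨hqY, hczY, hzY⟩ := simple_qs hsY hcY (by decide +kernel) (by decide +kernel)
  have hXY : ¬ X ≤ Y := fun hle => by
    have := card_dvd_of_le hle
    rw [hcX, hcY] at this
    exact absurd this (by decide +kernel)
  have h2p : Nat.Prime 2 := Nat.prime_two
  have h3p : Nat.Prime 3 := Nat.prime_three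
  have h5p : Nat.Prime 5 := by norm_num
  have h7p : Nat.Prime 7 := by norm_num
  have h13p : Nat.Prime 13 := by norm_num
  have key : ∀ r : ℕ, r.Prime → 2 ≠ r → 13 ≠ r → Nat.card ↥(pCore r M) * (oL2e * oTD4) ∣ N7 := by
    intro r hr h2 h13
    have h1 := card_three (P := pCore r M) hsX hsY hYX
      (not_le_core_of_dvd (s := 2) hr h2p h2 (by rw [hcY]; decide +kernel))
      (fun hd => by
        refine not_dvd_pcore_mul (M := M) (r := r) (s := 13) (c := Nat.card ↥Y) hr h13p h13
          (by rw [hcY]; decide +kernel) (Dvd.dvd.trans ?_ hd)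
        rw [hcX]
        decide +kernel)
    rw [hcX, hcY, mul_assoc] at h1
    exact h1.trans h.card
  have c3 : Nat.card ↥(pCore 3 M) ∣ 3 ^ 5 := pcore_pow h3p (key 3 h3p (by norm_num) (by norm_num)) (by decide +kernel)
  have c5 : Nat.card ↥(pCore 5 M) ∣ 5 ^ 2 := pcore_pow h5p (key 5 h5p (by norm_num) (by norm_num)) (by decide +kernel)
  have c7 : Nat.card ↥(pCore 7 M) ∣ 7 ^ 0 := pcore_pow h7p (key 7 h7p (by norm_num) (by norm_num)) (by decide +kernel)
  have hX3 := cent_of_card (s := 7) hq h3p h7p (by rw [hcz]; decide +kernel) c3 (by norm_num) (by decide +kernel)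
  have hX5 := cent_of_card (s := 7) hq h5p h7p (by rw [hcz]; decide +kernel) c5 (by norm_num) (by decide +kernel)
  have hX7 : X ≤ centralizer (pCore 7 M : Set M) := by
    rw [pow_zero, Nat.dvd_one, card_eq_one] at c7
    rw [c7, le_centralizer_iff]
    exact bot_le
  obtain ⟨L, hL, hXL, hXK, hXN, x, hx, hn, hr, hc, hd⟩ := frame7 h hq hX3 hX5 hX7
  rw [hcz] at hd
  have h1 : X ≤ L := le_of_norm hq hXN fun h2 => by
    have h3 : oTD4 * oTD4 ∣ N7 := by
      rw [hcz, hc] at h2
      exact (Nat.mul_dvd_mul_left _ hd).trans (h2.trans h.card)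
    exact absurd h3 (by decide +kernel)
  have hYL := le_sup_centralizer (perf_of_qs hqY) hL.2 (le_normalizer_comp (perf_of_qs hqY) hL (comp_pow4 h hL))
  have hmain : x.2 = oTD4 := by
    by_cases hYK : Y ≤ centralizer (L : Set M)
    · have h2 : L ≤ centralizer (Y : Set M) := le_centralizer_iff.1 hYK
      have h3 : x.2 ∣ Nat.card ↥L := by
        rw [← hc]
        exact card_quotient_dvd_card _
      have hcent : ∀ (p B : ℕ), p.Prime → (∀ z : M, orderOf z = p → Nat.card (centralizer {z} : Subgroup M) ∣ B) →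
          ¬ oL2e ∣ B → ¬ p ∣ x.2 := by
        intro p B hp hB hd' hpx
        obtain ⟨z, hz, ho⟩ := exists_order (X := L) hp (hpx.trans h3)
        refine hd' (Dvd.dvd.trans ?_ (hB z ho))
        rw [← hcY]
        exact card_dvd_of_le (hYK.trans (centralizer_le (Set.singleton_subset_iff.2 hz)))
      have h73 := hcent 73 73 (pr 73 (by decide +kernel)) h.c73 (by decide +kernel)
      have h19 := hcent 19 171 (pr 19 (by decide +kernel)) h.c19 (by decide +kernel)
      have h17' : ¬ 17 ∣ x.2 := fun hd' => h17 ((hd'.trans h3).trans (card_dvd_of_le h2))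
      have h4 := tab_all (P := fun x => x.2 % oTD4 != 0 || x.2 == N7 || x.2 % 73 == 0 || x.2 % 19 == 0 || x.2 % 17 == 0 ||
        decide (x.1 = .psp 2 8) || x.2 == oTD4) (by decide +kernel) hx
      simp only [Bool.or_eq_true, bne_iff_ne, beq_iff_eq, decide_eq_true_eq] at h4
      rcases h4 with (((((h4 | h4) | h4) | h4) | h4) | h4) | h4
      · exact absurd (Nat.mod_eq_zero_of_dvd hd) h4
      · exact absurd h4 hn
      · exact absurd (Nat.dvd_of_mod_eq_zero h4) h73
      · exact absurd (Nat.dvd_of_mod_eq_zero h4) h19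
      · exact absurd (Nat.dvd_of_mod_eq_zero h4) h17'
      · rw [h4] at hr
        exact (kill_psp2 h.toSub7 hr).elim
      · exact h4
    · obtain ⟨h2, h3⟩ := both_act hsX hsY hYX hCC hXY hXL hYL hXK hYK
      rw [hcX, hcY, hc] at h2
      have h4 := tab_all (P := fun x => x.2 % (oTD4 * oL2e) != 0 || x.2 == N7 || decide (x.1 = .psp 3 8) ||
        decide (x.1 = .e6 2)) (by decide +kernel) hx
      simp only [Bool.or_eq_true, bne_iff_ne, beq_iff_eq, decide_eq_true_eq] at h4
      rcases h4 with ((h4 | h4) | h4) | h4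
      · exact absurd (Nat.mod_eq_zero_of_dvd h2) h4
      · exact absurd h4 hn
      · rw [h4] at hr
        exact (kill_psp3 h.toSub7 hr).elim
      · rw [h4] at hr
        obtain ⟨g, hg, hgo⟩ := boxX3 M X Y hsX hcX hsY hcY hYX
        obtain ⟨y, hy⟩ := h3 g hg
        exact absurd (hy.trans hgo) (hX2 _ hr y).1
  have h5 : X = L := eq_of_card (perf_of_qs hq) hL.2 h1 (by rw [hc, hmain, hcz])
  subst h5
  have h6 : X.Normal := comp_normal hL fun h7 => by
    rw [hcz] at h7
    exact absurd (h7.trans h.card) (by decide +kernel)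
  have h7 := card_dvd h hL h6 hcz (g := .td4 2) (a := 3) (by decide +kernel) (by decide)
  have hcop : ∀ p : ℕ, p.Prime → (3 * oTD4) % p ≠ 0 → ¬ p ∣ Nat.card ↥(centralizer (X : Set M)) →
      ¬ p ∣ Nat.card M := by
    intro p hp h8 h9 h10
    rcases hp.dvd_mul.1 (h10.trans h7) with h11 | h11
    · exact h8 (Nat.mod_eq_zero_of_dvd h11)
    · exact h9 h11
  constructor
  · refine hcop 5 h5p (by decide +kernel) fun hd5 => ?_
    obtain ⟨w, hw, hwo⟩ := exists_order (X := centralizer (X : Set M)) h5p hd5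
    obtain ⟨z, hz', ho⟩ := exists_order (X := X) h13p (by rw [hcX]; decide +kernel)
    have hab : Commute z w := mem_centralizer_iff.1 hw z hz'
    exact h.n65 (z * w) (by rw [order_mul hab ho hwo (by norm_num)])
  · refine hcop 127 (pr 127 (by decide +kernel)) (by decide +kernel) fun hd' => ?_
    obtain ⟨w, hw, hwo⟩ := exists_order (X := centralizer (X : Set M)) (pr 127 (by decide +kernel)) hd'
    have h8 : X ≤ centralizer {w} := by
      intro y hy
      rw [mem_centralizer_singleton_iff]
      exact mem_centralizer_iff.1 hw y hy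
    have h9 := (card_dvd_of_le h8).trans (h.c127 w hwo)
    rw [hcX] at h9
    exact absurd h9 (by decide +kernel)

end Cfsg.Agent.R2.H14.Fr
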