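import Cfsg.Agent.R2.H14.Fr.E6Ord_m3
import Cfsg.Agent.Lib.GenFitting
import Cfsg.Agent.FastGrp
import Cfsg.Agent.Prune
set_option linter.all false
prune_inst 0x7f00000000000000000000000000000000000000000000000000000000000000000000000000000000000000000000000000000000000000000000000000000000000000000000000000000000000000003fffffffffffffffffffffffffffbeffbdffffffff
open scoped Cfsg.Agent.FastGrp

/-!
# Box F11 of S5934 (helper14)
-/

set_option autoImplicit false

namespace Cfsg.Agent.R2.H14.Fr

open Cfsg Subgroup Cfsg.Agent.Schreier.Basic Cfsg.Agent.OrdDiv Cfsg.Agent.R2.H27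
open scoped commutatorElement

variable {M : Type} [Group M]

/-- a `3`-subgroup in the centre of `F*` -/
theorem le_pcore_of_cent [Finite M] {A : Subgroup M} {r : ℕ} (hr : r.Prime) (hA : IsPGroup r ↥A)
    (h : A ≤ centralizer (generalizedFittingSubgroup M : Set M)) : A ≤ pCore r M := by
  have : Fact r.Prime := ⟨hr⟩
  set Z := centralizer (generalizedFittingSubgroup M : Set M) with hZ
  have h1 : Z ≤ generalizedFittingSubgroup M := S1265.result
  have h2 : Z ≤ centralizer (Z : Set M) := centralizer_le h1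
  have hFn : (generalizedFittingSubgroup M).Normal := Lib.GenFitting.genFitting_normal
  have hZn : Z.Normal := inferInstance
  have h4 : Group.IsNilpotent ↥Z := by
    have h6 : IsMulCommutative ↥Z := ⟨⟨fun a b => Subtype.ext (mem_centralizer_iff.1 (h2 b.2) a a.2)⟩⟩
    let _ : CommGroup ↥Z := { (inferInstance : Group ↥Z) with mul_comm := h6.is_comm.comm }
    infer_instance
  intro x hx
  obtain ⟨k, hk⟩ := hA ⟨x, hx⟩
  exact Lib.GenFitting.mem_pCore_of_mem_nilpotent_normal hZn h4 (h hx) (k := k) (congrArg Subtype.val hk)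

/-- a `p`-group acting on a nontrivial `p`-group has nontrivial fixed points -/
theorem inf_cent_ne_bot [Finite M] {A P : Subgroup M} {r : ℕ} (hr : r.Prime) (hA : IsPGroup r ↥A)
    (hP : IsPGroup r ↥P) (hn : A ≤ normalizer (P : Set M)) (hPb : P ≠ ⊥) : P ⊓ centralizer (A : Set M) ≠ ⊥ := by
  have : Fact r.Prime := ⟨hr⟩
  let _ := conjAct hn
  have hsm : ∀ (g : ↥A) (y : ↥P), ((g • y : ↥P) : M) = g * y * (g : M)⁻¹ := fun _ _ => rfl
  obtain ⟨n, hn'⟩ := IsPGroup.iff_card.1 hP
  have hn0 : n ≠ 0 := by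
    rintro rfl
    rw [pow_zero, card_eq_one] at hn'
    exact hPb hn'
  obtain ⟨b, hb, hb1⟩ := hA.exists_fixed_point_of_prime_dvd_card_of_fixed_point ↥P (hn' ▸ dvd_pow_self r hn0)
    (a := (1 : ↥P)) (by
      intro g
      apply Subtype.ext
      rw [hsm]
      simp)
  intro h
  have h1 : (b : M) ∈ P ⊓ centralizer (A : Set M) := by
    refine ⟨b.2, mem_centralizer_iff.2 ?_⟩
    intro a ha
    have := congrArg Subtype.val (hb ⟨a, ha⟩)
    rw [hsm] at this
    exact mul_inv_eq_iff_eq_mul.1 this
  rw [h, mem_bot] at h1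
  exact hb1 (Subtype.ext h1.symm)

theorem inf_norm {X P K : Subgroup M} (h1 : X ≤ normalizer (P : Set M)) (h2 : X ≤ normalizer (K : Set M)) :
    X ≤ normalizer ((P ⊓ K : Subgroup M) : Set M) :=
  le_norm_of fun _ hx k hk => ⟨(mem_normalizer_iff.1 (h1 hx) k).1 hk.1, (mem_normalizer_iff.1 (h2 hx) k).1 hk.2⟩

/-- **Box F11.** -/
theorem boxF11 : BoxF11 := by
  intro M _ h A N₀ hcA hAN hNA hNp hcN hirr hCA hmax
  have := h.fin
  have h3p : Nat.Prime 3 := Nat.prime_three
  have h5p : Nat.Prime 5 := by norm_num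
  have h7p : Nat.Prime 7 := by norm_num
  have : Fact (Nat.Prime 3) := ⟨h3p⟩
  have hA3 : IsPGroup 3 ↥A := IsPGroup.of_card hcA
  have hPn : ∀ r, N₀ ≤ normalizer (pCore r M : Set M) := fun r => by
    rw [normalizer_eq_top]
    exact le_top
  have hAb : A ≠ ⊥ := by
    intro hb
    rw [hb, card_bot] at hcA
    exact absurd hcA (by norm_num)
  by_cases hP : pCore 3 M = ⊥
  · exfalso
    -- normal subgroups of `N₀`
    have hnor : ∀ K : Subgroup M, K ≤ N₀ → N₀ ≤ normalizer (K : Set M) → K = ⊥ ∨ K = A ∨ K = N₀ := by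
      intro K hK hKn
      rcases hirr (K ⊓ A) inf_le_right (inf_norm hKn hNA) with h1 | h1
      · left
        have h2 : K ≤ centralizer (A : Set M) := by
          intro k hk
          rw [mem_centralizer_iff]
          intro a ha
          have h4 : a * k * a⁻¹ * k⁻¹ ∈ K ⊓ A := by
            constructor
            · exact K.mul_mem ((mem_normalizer_iff.1 (hKn (hAN ha)) k).1 hk) (K.inv_mem hk)
            · have h5 := (mem_normalizer_iff.1 (hNA (hK hk)) a⁻¹).1 (A.inv_mem ha)
              have h6 := A.mul_mem ha h5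
              have h7 : a * (k * a⁻¹ * k⁻¹) = a * k * a⁻¹ * k⁻¹ := by group
              rwa [h7] at h6
          rw [h1, mem_bot] at h4
          exact (mul_inv_eq_iff_eq_mul.1 (mul_inv_eq_one.1 h4))
        rw [hCA] at h2
        rw [← h1]
        exact (inf_eq_left.2 h2).symm
      · right
        exact hmax K (inf_eq_right.1 h1) hK hKn
    have hdisj : ∀ r : ℕ, r.Prime → r ≠ 3 → N₀ ⊓ pCore r M = ⊥ := by
      intro r hr hr3
      have : Fact r.Prime := ⟨hr⟩
      have hpg : IsPGroup r ↥(N₀ ⊓ pCore r M) := (Lib.Cores.pCore_isPGroup r).to_le inf_le_right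
      obtain ⟨n, hn⟩ := IsPGroup.iff_card.1 hpg
      have key : ¬ 3 ∣ Nat.card ↥(N₀ ⊓ pCore r M) := by
        rw [hn]
        intro hd
        exact hr3 ((Nat.prime_dvd_prime_iff_eq h3p hr).1 (h3p.dvd_of_dvd_pow hd)).symm
      rcases hnor _ inf_le_left (inf_norm le_normalizer (hPn r)) with h1 | h1 | h1
      · exact h1
      · refine absurd ?_ key
        rw [h1, hcA]
        decide
      · refine absurd ?_ key
        rw [h1, hcN]
        decide
    have hcard : ∀ r : ℕ, r.Prime → r ≠ 3 → Nat.card ↥(pCore r M) * (3 ^ 7 * oS6) ∣ N7 := by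
      intro r hr hr3
      have h1 := relIndex_mul_dvd N₀ (pCore r M) (hPn r)
      rw [← inf_relIndex_right, inf_comm, hdisj r hr hr3, relIndex_bot_left, hcN, mul_comm] at h1
      exact h1.trans h.card
    -- `N₀` centralises `O_r(M)`
    have hker : ∀ r s k : ℕ, r.Prime → s.Prime → s ≠ 3 → s ∣ Nat.card ↥N₀ → Nat.card ↥(pCore r M) ∣ r ^ k → s ≠ r →
        (∀ i, 1 ≤ i → i ≤ k → ¬ s ∣ r ^ i - 1) → N₀ ≤ centralizer (pCore r M : Set M) := by
      intro r s k hr hs hs3 hsN hcP hsr hd
      obtain ⟨x, hx, ho⟩ := exists_order (X := N₀) hs hsN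
      have h1 : x ∈ centralizer (pCore r M : Set M) :=
        elt_centralizes (a := 1) hr hs (hPn r hx) (by rw [pow_one]; exact ho) hcP hsr hd
      rcases hnor (N₀ ⊓ centralizer (pCore r M : Set M)) inf_le_left
        (inf_norm le_normalizer (le_normalizer_centralizer (hPn r))) with h2 | h2 | h2
      · have h3 : x ∈ N₀ ⊓ centralizer (pCore r M : Set M) := ⟨hx, h1⟩
        rw [h2, mem_bot] at h3
        rw [h3, orderOf_one] at ho
        exact absurd ho.symm hs.one_lt.ne'
      · have h3 : x ∈ N₀ ⊓ centralizer (pCore r M : Set M) := ⟨hx, h1⟩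
        rw [h2] at h3
        have h4 := orderOf_dvd_natCard A h3
        rw [ho, hcA] at h4
        exact absurd ((Nat.prime_dvd_prime_iff_eq hs h3p).1 (hs.dvd_of_dvd_pow h4)) hs3
      · rw [← h2]
        exact inf_le_right
    have hall : ∀ r : ℕ, r.Prime → N₀ ≤ centralizer (pCore r M : Set M) := by
      refine cent_all h hNp ?_ ?_ ?_
      · rw [hP, le_centralizer_iff]
        exact bot_le
      · have h1 : Nat.card ↥(pCore 5 M) ∣ 5 ^ 1 := pcore_pow h5p (hcard 5 h5p (by norm_num)) (by decide +kernel)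
        refine hker 5 7 1 h5p h7p (by norm_num) (by rw [hcN]; decide) h1 (by norm_num) ?_
        intro i hi1 hi2
        obtain rfl : i = 1 := le_antisymm hi2 hi1
        norm_num
      · have h1 : Nat.card ↥(pCore 7 M) ∣ 7 ^ 2 := pcore_pow h7p (hcard 7 h7p (by norm_num)) (by decide +kernel)
        refine hker 7 5 2 h7p h5p (by norm_num) (by rw [hcN]; decide) h1 (by norm_num) ?_
        intro i hi1 hi2
        interval_cases i <;> norm_num
    have hF := le_centralizer_fitting hall
    obtain ⟨L, hL, hAL⟩ : ∃ L : Subgroup M, IsComponent L ∧ ¬ A ≤ centralizer (L : Set M) := by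
      by_contra hcon
      push Not at hcon
      have h1 : A ≤ centralizer (layer M : Set M) := by
        rw [le_centralizer_iff, layer]
        refine sSup_le fun K hK => ?_
        rw [← le_centralizer_iff]
        exact hcon K hK
      have h2 : A ≤ centralizer (generalizedFittingSubgroup M : Set M) := by
        rw [le_centralizer_iff, generalizedFittingSubgroup]
        exact sup_le (le_centralizer_iff.1 h1) (le_centralizer_iff.1 (hAN.trans hF))
      have h3 := le_pcore_of_cent h3p hA3 h2
      rw [hP, le_bot_iff] at h3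
      exact hAb h3
    have hNL := le_normalizer_comp hNp hL (comp_pow4 h hL)
    have hNLC := le_sup_centralizer hNp hL.2 hNL
    have hbot : N₀ ⊓ centralizer (L : Set M) = ⊥ := by
      rcases hnor (N₀ ⊓ centralizer (L : Set M)) inf_le_left
        (inf_norm le_normalizer (le_normalizer_centralizer hNL)) with h2 | h2 | h2
      · exact h2
      · refine absurd ?_ hAL
        rw [← h2]
        exact inf_le_right
      · refine absurd (hAN.trans ?_) hAL
        rw [← h2]
        exact inf_le_right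
    obtain ⟨x, hx, hn, hr, hc⟩ := comp_tab h hL
    have h2 := relIndex_dvd_comp hNLC
    rw [← inf_relIndex_right, inf_comm, hbot, relIndex_bot_left, hcN, hc] at h2
    have h4 := tab_all (P := fun x => x.2 % (3 ^ 7 * oS6) != 0 || x.2 == N7 || decide (x.1 = .psu 9 2))
      (by decide +kernel) hx
    simp only [Bool.or_eq_true, bne_iff_ne, beq_iff_eq, decide_eq_true_eq] at h4
    rcases h4 with (h4 | h4) | h4
    · exact h4 (Nat.mod_eq_zero_of_dvd h2)
    · exact hn h4
    · rw [h4] at hr
      exact kill_psu9 h.toSub7 hr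
  · have hP3 : IsPGroup 3 ↥(pCore 3 M) := Lib.Cores.pCore_isPGroup 3
    have h1 := inf_cent_ne_bot h3p hA3 hP3 (hAN.trans (hPn 3)) hP
    rw [hCA] at h1
    have h2 := (hirr (pCore 3 M ⊓ A) inf_le_right (inf_norm (hPn 3) hNA)).resolve_left h1
    have hAP : A ≤ pCore 3 M := inf_eq_right.1 h2
    have h3 : pCore 3 M ⊓ N₀ = A := by
      rcases hmax (pCore 3 M ⊓ N₀) (le_inf hAP hAN) inf_le_right (inf_norm (hPn 3) le_normalizer) with h3 | h3
      · exact h3
      · exfalso
        have h4 : N₀ ≤ pCore 3 M := inf_eq_right.1 h3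
        obtain ⟨j, hj⟩ := card_pcore (M := M) h3p
        have h5 := card_dvd_of_le h4
        rw [hj, hcN] at h5
        have h6 : 5 ∣ 3 ^ j := Dvd.dvd.trans (by decide) h5
        exact absurd (h5p.dvd_of_dvd_pow h6) (by norm_num)
    have h4 : (pCore 3 M).relIndex N₀ = oS6 := by
      rw [← inf_relIndex_right, h3]
      have h5 := relIndex_mul_relIndex ⊥ A N₀ bot_le hAN
      rw [relIndex_bot_left, relIndex_bot_left, hcA, hcN] at h5
      exact Nat.eq_of_mul_eq_mul_left (by norm_num) h5
    have h5 := relIndex_mul_dvd N₀ (pCore 3 M) (hPn 3)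
    rw [h4, mul_comm] at h5
    have h6 : Nat.card ↥(pCore 3 M) ∣ 3 ^ 7 := pcore_pow h3p (h5.trans h.card) (by decide +kernel)
    exact Nat.dvd_antisymm h6 (hcA ▸ card_dvd_of_le hAP)

end Cfsg.Agent.R2.H14.Fr
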