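import Cfsg.Prelude.Def_Local
import Cfsg.Prelude.Def_KGroupFacts
import Cfsg.Agent.Schreier.Basic
import Cfsg.Agent.StdRank2.SchQuot_m3
import Cfsg.Agent.Lib.Cores
import Cfsg.Agent.S1261
import Cfsg.Agent.S1265
import Cfsg.Agent.S5758
import Cfsg.Agent.Schreier.Tools
import Cfsg.Agent.S1270
import Cfsg.Agent.OrdDiv.Table
import Cfsg.Agent.R2.H27.Asm_m3
import Cfsg.Agent.S0000
import Cfsg.Agent.H364.OutLie
import Cfsg.Agent.S2074
import Cfsg.Agent.S2079
import Cfsg.Agent.Schreier.KBalance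
import Cfsg.Agent.H290.Wei.TopElt
import Cfsg.Agent.H360.Iso.Uni
import Cfsg.Agent.S0144
import Cfsg.Agent.H501.TwoCyc.Ord_m3
import Cfsg.Agent.S0837
import Cfsg.Agent.S0277
import Cfsg.Agent.S0279
import Cfsg.Agent.H824.E7.Facts
import Cfsg.Agent.H904.E7Main
import Cfsg.Agent.H540.E72.Row
import Cfsg.Agent.H102.E7V.Pos_m3
import Cfsg.Agent.S5744
import Cfsg.Agent.S1064
import Cfsg.Agent.FastGrp
import Cfsg.Agent.Prune
set_option linter.all false

section
prune_inst 0x7f00000000000000000000000000000000000000000000000000000000000000000000000000000000000000000000000000000000000000000000000000000000000000000000000000000000000000003fffffffffffffffffffffffffffbeffbdffffffff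

-- part: R2/H14/Fr/Ctx
section
set_option linter.all false
open scoped Cfsg.Agent.FastGrp

-- part: R2/H14/Fr/Basic
section
/-!
# Perfect subgroups and components (helper14, for S5934, box F)

* `le_sup_centralizer` : a perfect subgroup normalising the quasisimple `L` lies in `L C(L)`;
* `exists_component` : a perfect subgroup centralising `F(G)` and normalising the components acts nontrivially on one;
* `pow_dvd` : `n` pairwise commuting subgroups with central quotients of order `s`: `s ^ n ∣ |G|`;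
* `le_normalizer` : perfect subgroups normalise the component `L` if `|L / Z(L)| ^ 4 ∤ |G|`.
-/

set_option autoImplicit false

namespace Cfsg.Agent.R2.H14.Fr

open Cfsg Subgroup Cfsg.Agent.Schreier.Basic

universe u
variable {G : Type u} [Group G]

/-- the Schreier property of the simple groups -/
theorem sch_simple {K : Type u} [Group K] [Finite K] [IsSimpleGroup K] : Sch K := by
  intro C hC φ hφ
  have h : Group.IsSolvable (Out K) := Cfsg.Agent.S5758.result
  have := apply_eq_one_of_perfect (QuotientGroup.mk' (Inn K)) hC hφ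
  rwa [QuotientGroup.mk'_apply, QuotientGroup.eq_one_iff] at this

theorem sch_qs {K : Type u} [Group K] [Finite K] (h : IsQuasisimple K) : Sch K := by
  have := h.2
  exact Cfsg.Agent.StdRank2.SchQuot.sch_of_center h.1.commutator_eq_top sch_simple

theorem subgroupOf_perfect {X H : Subgroup G} (hX : ⁅X, X⁆ = X) (h : X ≤ H) :
    ⁅X.subgroupOf H, X.subgroupOf H⁆ = X.subgroupOf H := by
  apply Subgroup.map_injective H.subtype_injective
  rw [Subgroup.map_commutator, subgroupOf_map_subtype, inf_eq_left.2 h, hX]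

theorem le_sup_centralizer [Finite G] {X L : Subgroup G} (hX : ⁅X, X⁆ = X) (hL : IsQuasisimple ↥L)
    (hn : X ≤ normalizer (L : Set G)) : X ≤ L ⊔ centralizer (L : Set G) := by
  intro x hx
  set H := normalizer (L : Set G)
  have hLH : L ≤ H := le_normalizer
  have hnorm : (L.subgroupOf H).Normal := normal_in_normalizer
  have e : ↥(L.subgroupOf H) ≃* ↥L := subgroupOfEquivOfLe hLH
  have hS : Sch ↥(L.subgroupOf H) := (sch_qs hL).of_equiv e.symm
  have h1 := hS _ (map_perfect (MulAut.conjNormal : H →* MulAut (L.subgroupOf H)) (subgroupOf_perfect hX hn))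
  obtain ⟨l, hl⟩ := h1 ⟨⟨x, hn hx⟩, hx, rfl⟩
  have hlL : ((l : H) : G) ∈ L := l.2
  have h2 : ((l : H) : G)⁻¹ * x ∈ centralizer (L : Set G) := by
    rw [mem_centralizer_iff]
    intro y hy
    have h3 := congrArg (fun f : MulAut (L.subgroupOf H) => (((f ⟨⟨y, hLH hy⟩, hy⟩ : L.subgroupOf H) : H) : G)) hl
    have h4 : ((l : H) : G) * y * ((l : H) : G)⁻¹ = x * y * x⁻¹ := h3
    calc y * (((l : H) : G)⁻¹ * x) = ((l : H) : G)⁻¹ * (((l : H) : G) * y * ((l : H) : G)⁻¹) * x := by group
      _ = ((l : H) : G)⁻¹ * (x * y * x⁻¹) * x := by rw [h4]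
      _ = _ := by group
  have h3 : x = ((l : H) : G) * (((l : H) : G)⁻¹ * x) := by group
  rw [h3]
  exact mul_mem (mem_sup_left hlL) (mem_sup_right h2)

theorem eq_bot_of_comm {X : Subgroup G} (hX : ⁅X, X⁆ = X) (h : X ≤ centralizer (X : Set G)) : X = ⊥ := by
  rw [← hX]
  exact commutator_eq_bot_iff_le_centralizer.2 h

/-- a nontrivial perfect subgroup centralising `F(G)` does not centralise all the components -/
theorem exists_component [Finite G] {X : Subgroup G} (hX : ⁅X, X⁆ = X) (hX1 : X ≠ ⊥)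
    (hF : X ≤ centralizer (fittingSubgroup G : Set G)) :
    ∃ L : Subgroup G, IsComponent L ∧ ¬ X ≤ centralizer (L : Set G) := by
  by_contra hcon
  push Not at hcon
  have h1 : X ≤ centralizer (layer G : Set G) := by
    rw [le_centralizer_iff, layer]
    refine sSup_le fun K hK => ?_
    rw [← le_centralizer_iff]
    exact hcon K hK
  have h2 : X ≤ centralizer (generalizedFittingSubgroup G : Set G) := by
    rw [le_centralizer_iff, generalizedFittingSubgroup]
    exact sup_le (le_centralizer_iff.1 h1) (le_centralizer_iff.1 hF)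
  have h3 : X ≤ generalizedFittingSubgroup G := h2.trans S1265.result
  exact hX1 (eq_bot_of_comm hX (h2.trans (centralizer_le h3)))

/-- distinct components commute -/
theorem comp_comm [Finite G] {K L : Subgroup G} (hK : IsComponent K) (hL : IsComponent L) (h : K ≠ L) :
    K ≤ centralizer (L : Set G) := by
  rcases S1261.result K L hK hL.1 with h1 | h1
  · rcases S1261.result L K hL hK.1 with h2 | h2
    · exact absurd (le_antisymm h1 h2) h
    · rw [le_centralizer_iff]
      exact commutator_eq_bot_iff_le_centralizer.1 h2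
  · exact commutator_eq_bot_iff_le_centralizer.1 h1

theorem center_eq (L : Subgroup G) : center ↥L = (centralizer (L : Set G)).subgroupOf L := by
  ext x
  rw [mem_center_iff, mem_subgroupOf, mem_centralizer_iff]
  constructor
  · intro h y hy
    exact congrArg Subtype.val (h ⟨y, hy⟩)
  · intro h y
    exact Subtype.ext (h y y.2)

theorem le_normalizer_centralizer {X L : Subgroup G} (h : X ≤ normalizer (L : Set G)) :
    X ≤ normalizer (centralizer (L : Set G) : Set G) := by
  intro x hx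
  have hx' := h hx
  rw [mem_normalizer_iff] at hx' ⊢
  intro y
  have hx2 : x⁻¹ ∈ normalizer (L : Set G) := inv_mem (h hx)
  rw [mem_normalizer_iff] at hx2
  constructor
  · intro hy
    rw [mem_centralizer_iff] at hy ⊢
    intro l hl
    have h1 := hy (x⁻¹ * l * x⁻¹⁻¹) ((hx2 l).1 hl)
    calc l * (x * y * x⁻¹) = x * ((x⁻¹ * l * x⁻¹⁻¹) * y) * x⁻¹ := by group
      _ = x * (y * (x⁻¹ * l * x⁻¹⁻¹)) * x⁻¹ := by rw [h1]
      _ = _ := by group
  · intro hy
    rw [mem_centralizer_iff] at hy ⊢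
    intro l hl
    have h1 := hy (x * l * x⁻¹) ((hx' l).1 hl)
    calc l * y = x⁻¹ * ((x * l * x⁻¹) * (x * y * x⁻¹)) * x := by group
      _ = x⁻¹ * ((x * y * x⁻¹) * (x * l * x⁻¹)) * x := by rw [h1]
      _ = _ := by group

/-- `|X / (X ∩ C)| |C|` divides `|G|` if `X` normalises `C` -/
theorem relIndex_mul_dvd [Finite G] (X C : Subgroup G) (h : X ≤ normalizer (C : Set G)) :
    C.relIndex X * Nat.card ↥C ∣ Nat.card G := by
  set N := normalizer (C : Set G)
  have hn : (C.subgroupOf N).Normal := normal_in_normalizer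
  have h1 : (C.subgroupOf N).relIndex (X.subgroupOf N) ∣ (C.subgroupOf N).index :=
    relIndex_dvd_index_of_normal _ _
  have h2 : (C.subgroupOf N).relIndex (X.subgroupOf N) = C.relIndex X := by
    rw [relIndex_subgroupOf h]
  have h3 : (C.subgroupOf N).index * Nat.card ↥C = Nat.card N := by
    have := (C.subgroupOf N).index_mul_card
    rwa [Nat.card_congr (subgroupOfEquivOfLe (le_normalizer : C ≤ N)).toEquiv] at this
  rw [h2] at h1
  exact (Nat.mul_dvd_mul_right h1 _).trans (h3 ▸ card_subgroup_dvd_card N)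

/-- the central quotient of a subgroup -/
theorem card_mul_centralizer_dvd [Finite G] (L : Subgroup G) :
    Nat.card (↥L ⧸ center ↥L) * Nat.card ↥(centralizer (L : Set G)) ∣ Nat.card G := by
  have h1 := relIndex_mul_dvd L (centralizer (L : Set G)) (le_normalizer_centralizer le_normalizer)
  have h2 : Nat.card (↥L ⧸ center ↥L) = (centralizer (L : Set G)).relIndex L := by
    rw [center_eq]
    rfl
  rwa [h2]

/-- `n` pairwise commuting subgroups with central quotients of order `s` -/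
theorem pow_dvd (s n : ℕ) : ∀ (G : Type u) [Group G] [Finite G] (f : Fin n → Subgroup G),
    (∀ i, Nat.card (↥(f i) ⧸ center ↥(f i)) = s) → (∀ i j, i ≠ j → f i ≤ centralizer (f j : Set G)) →
    s ^ n ∣ Nat.card G := by
  induction n with
  | zero => intro G _ _ f _ _; simp
  | succ n ih =>
    intro G _ _ f hs hc
    set C := centralizer (f 0 : Set G)
    have h1 : s ^ n ∣ Nat.card ↥C := by
      refine ih ↥C (fun i => (f i.succ).subgroupOf C) (fun i => ?_) fun i j hij => ?_
      · have hle : f i.succ ≤ C := hc _ _ (Fin.succ_ne_zero i)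
        have e : ↥((f i.succ).subgroupOf C) ≃* ↥(f i.succ) := subgroupOfEquivOfLe hle
        rw [← hs i.succ]
        exact Nat.card_congr (QuotientGroup.congr _ _ e (by
          ext x
          constructor
          · rintro ⟨y, hy, rfl⟩
            rw [SetLike.mem_coe, mem_center_iff] at hy
            rw [mem_center_iff]
            intro z
            have := congrArg e (hy (e.symm z))
            simpa only [_root_.MonoidHom.coe_coe, _root_.map_mul, _root_.MulEquiv.apply_symm_apply] using this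
          · intro hx
            refine ⟨e.symm x, ?_, by simp⟩
            rw [SetLike.mem_coe, mem_center_iff]
            intro z
            have := congrArg e.symm ((mem_center_iff.1 hx) (e z))
            simpa only [_root_.map_mul, _root_.MulEquiv.symm_apply_apply] using this)).toEquiv
      · intro x hx
        have := hc i.succ j.succ (by simpa using hij) hx
        rw [mem_centralizer_iff] at this ⊢
        intro y hy
        exact Subtype.ext (this y hy)
    have h2 := card_mul_centralizer_dvd (f 0)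
    rw [hs 0] at h2
    rw [pow_succ, mul_comm]
    exact (Nat.mul_dvd_mul_left s h1).trans h2

end Cfsg.Agent.R2.H14.Fr
end

-- part: R2/H14/Fr/Act
section
/-!
# Quasisimple subgroups acting on `r`-groups and on the set of components (helper14, for S5934, box F)

* `qs_normal` : the normal subgroups of a quasisimple group;
* `le_centralizer_of_prime` : `s ∣ |X / Z(X)|`, `s ∤ r ^ i - 1` for `i ≤ k`, `|P| ∣ r ^ k`: `X` centralises `P`;
* `le_normalizer_comp` : a perfect subgroup normalises the component `L` if `|L / Z(L)| ^ 4 ∤ |G|`.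
-/

set_option autoImplicit false

namespace Cfsg.Agent.R2.H14.Fr

open Cfsg Subgroup Cfsg.Agent.Schreier.Basic
open scoped commutatorElement

universe u
variable {G : Type u} [Group G]

theorem qs_normal {X : Type u} [Group X] (hX : IsQuasisimple X) (N : Subgroup X) [hN : N.Normal] :
    N ≤ center X ∨ N = ⊤ := by
  have := hX.2
  have hn : (N.map (QuotientGroup.mk' (center X))).Normal := hN.map _ (QuotientGroup.mk'_surjective _)
  rcases hn.eq_bot_or_eq_top with h | h
  · left
    rwa [Subgroup.map_eq_bot_iff, QuotientGroup.ker_mk'] at h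
  · right
    have h1 : N ⊔ center X = ⊤ := by
      have := congrArg (Subgroup.comap (QuotientGroup.mk' (center X))) h
      rwa [comap_map_eq, QuotientGroup.ker_mk', comap_top] at this
    have h2 : commutator X ≤ N := by
      rw [commutator_def, ← h1, commutator_le]
      intro a ha b hb
      obtain ⟨n, hn, z, hz, rfl⟩ := mem_sup_of_normal_right.1 ha
      obtain ⟨m, hm, w, hw, rfl⟩ := mem_sup_of_normal_right.1 hb
      have c1 := mem_center_iff.1 hz
      have c2 := mem_center_iff.1 hw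
      have h5 : n * z * (m * w) = n * m * (z * w) := by
        calc n * z * (m * w) = n * (z * m) * w := by group
          _ = n * (m * z) * w := by rw [c1]
          _ = _ := by group
      have h6 : m * w * (n * z) = m * n * (z * w) := by
        calc m * w * (n * z) = m * (w * n) * z := by group
          _ = m * (n * w) * z := by rw [c2]
          _ = m * n * (w * z) := by group
          _ = _ := by rw [c1]
      have h7 : ⁅n * z, m * w⁆ = ⁅n, m⁆ := by
        have h8 : ⁅n * z, m * w⁆ = (n * z * (m * w)) * (m * w * (n * z))⁻¹ := by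
          rw [commutatorElement_def]
          group
        rw [h8, h5, h6, commutatorElement_def]
        group
      rw [h7, commutatorElement_def]
      exact N.mul_mem (N.mul_mem (N.mul_mem hn hm) (N.inv_mem hn)) (N.inv_mem hm)
    rw [hX.1.commutator_eq_top] at h2
    exact top_le_iff.1 h2

theorem perf_of_qs {X : Subgroup G} (hX : IsQuasisimple ↥X) : ⁅X, X⁆ = X := by
  have h1 : ⁅(⊤ : Subgroup X), (⊤ : Subgroup X)⁆ = ⊤ := hX.1.commutator_eq_top
  have h2 := congrArg (Subgroup.map X.subtype) h1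
  rw [Subgroup.map_commutator, ← MonoidHom.range_eq_map, Subgroup.range_subtype] at h2
  exact h2

theorem qs_of_perf {X : Subgroup G} (h1 : ⁅X, X⁆ = X) (h2 : IsSimpleGroup (↥X ⧸ center ↥X)) : IsQuasisimple ↥X := by
  refine ⟨⟨?_⟩, h2⟩
  apply Subgroup.map_injective X.subtype_injective
  rw [commutator_def, Subgroup.map_commutator, ← MonoidHom.range_eq_map, Subgroup.range_subtype, h1]

theorem qs_ne_bot {X : Subgroup G} (hX : IsQuasisimple ↥X) : X ≠ ⊥ := by
  rintro rfl
  have := hX.2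
  have h1 : Nontrivial (↥(⊥ : Subgroup G) ⧸ center ↥(⊥ : Subgroup G)) := inferInstance
  obtain ⟨a, b, hab⟩ := h1
  obtain ⟨x, rfl⟩ := QuotientGroup.mk_surjective a
  obtain ⟨y, rfl⟩ := QuotientGroup.mk_surjective b
  exact hab (congrArg _ (Subsingleton.elim x y))

/-- a subgroup normalised by the quasisimple `X` -/
theorem le_or_center {X K : Subgroup G} (hX : IsQuasisimple ↥X) (hn : X ≤ normalizer (K : Set G)) :
    X ≤ K ∨ K.subgroupOf X ≤ center ↥X := by
  have hk : (K.subgroupOf X).Normal := by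
    constructor
    intro n hn' g
    have := hn g.2
    rw [mem_normalizer_iff] at this
    exact (this n).1 hn'
  rcases qs_normal hX (K.subgroupOf X) with h | h
  · exact Or.inr h
  · exact Or.inl (subgroupOf_eq_top.1 h)

/-- noncentral elements of prime power order -/
theorem exists_elt {X : Type u} [Group X] [Finite X] {s : ℕ} (hs : s.Prime) (h : s ∣ Nat.card (X ⧸ center X)) :
    ∃ x : X, x ∉ center X ∧ ∃ a, orderOf x = s ^ a := by
  have : Fact s.Prime := ⟨hs⟩
  obtain ⟨y, hy⟩ := exists_prime_orderOf_dvd_card' s h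
  obtain ⟨x, rfl⟩ := QuotientGroup.mk_surjective y
  obtain ⟨a, m, hm, ho⟩ := Nat.exists_eq_pow_mul_and_not_dvd (orderOf_pos x).ne' s hs.ne_one
  refine ⟨x ^ m, fun hc => ?_, a, ?_⟩
  · have h1 : (QuotientGroup.mk x : X ⧸ center X) ^ m = 1 := by
      rw [← QuotientGroup.mk_pow, QuotientGroup.eq_one_iff]
      exact hc
    exact hm (hy ▸ orderOf_dvd_of_pow_eq_one h1)
  · have hm0 : m ≠ 0 := by
      rintro rfl
      exact hm (dvd_zero s)
    rw [orderOf_pow_of_dvd hm0 (ho ▸ Dvd.intro_left _ rfl), ho]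
    exact Nat.mul_div_cancel _ (Nat.pos_of_ne_zero hm0)

/-- an element of order `s ^ a` centralises an `r`-group which it normalises -/
theorem elt_centralizes [Finite G] {P : Subgroup G} {x : G} {r s k a : ℕ} (hr : r.Prime) (hs : s.Prime)
    (hx : x ∈ normalizer (P : Set G)) (ho : orderOf x = s ^ a) (hP : Nat.card ↥P ∣ r ^ k) (hrs : s ≠ r)
    (hd : ∀ i, 1 ≤ i → i ≤ k → ¬ s ∣ r ^ i - 1) : x ∈ centralizer (P : Set G) := by
  have : Fact s.Prime := ⟨hs⟩
  have hx' : ∀ g ∈ zpowers x, g ∈ normalizer (P : Set G) := fun g hg => by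
    have : zpowers x ≤ normalizer (P : Set G) := by rwa [zpowers_le]
    exact this hg
  let _ : MulAction ↥(zpowers x) ↥P :=
    { smul := fun g y => ⟨g * y * (g : G)⁻¹, ((mem_normalizer_iff.1 (hx' g g.2)) y).1 y.2⟩
      one_smul := fun y => Subtype.ext (by
        show ((1 : ↥(zpowers x)) : G) * y * ((1 : ↥(zpowers x)) : G)⁻¹ = y
        simp only [_root_.OneMemClass.coe_one, _root_.one_mul, _root_.inv_one, _root_.mul_one])
      mul_smul := fun g h y => Subtype.ext (by
        show ((g * h : ↥(zpowers x)) : G) * y * ((g * h : ↥(zpowers x)) : G)⁻¹ = g * (h * y * (h : G)⁻¹) * (g : G)⁻¹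
        rw [coe_mul]
        group) }
  have hsm : ∀ (g : ↥(zpowers x)) (y : ↥P), ((g • y : ↥P) : G) = g * y * (g : G)⁻¹ := fun _ _ => rfl
  have hpg : IsPGroup s ↥(zpowers x) := IsPGroup.of_card (by rw [Nat.card_zpowers, ho])
  have h1 := hpg.card_modEq_card_fixedPoints ↥P
  let Q : Subgroup ↥P := (centralizer {x}).subgroupOf P
  have h2 : MulAction.fixedPoints ↥(zpowers x) ↥P = (Q : Set ↥P) := by
    ext y
    rw [MulAction.mem_fixedPoints, SetLike.mem_coe, mem_subgroupOf, mem_centralizer_singleton_iff]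
    constructor
    · intro h
      have := congrArg Subtype.val (h ⟨x, mem_zpowers x⟩)
      rw [hsm] at this
      exact (mul_inv_eq_iff_eq_mul.1 this).symm
    · rintro h ⟨g, hg⟩
      obtain ⟨n, rfl⟩ := mem_zpowers_iff.1 hg
      apply Subtype.ext
      rw [hsm]
      have hc : Commute x (y : G) := h.symm
      exact mul_inv_eq_iff_eq_mul.2 (hc.zpow_left n).eq
  rw [h2] at h1
  have h3 : Nat.card ↥Q ∣ Nat.card ↥P := card_subgroup_dvd_card Q
  obtain ⟨n, hnk, hn⟩ := (Nat.dvd_prime_pow hr).1 hP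
  obtain ⟨j, hjn, hj⟩ := (Nat.dvd_prime_pow hr).1 (hn ▸ h3)
  have h4 : Nat.card ((Q : Set ↥P)) = r ^ j := hj
  rw [h4, hn] at h1
  have h5 : j = n := by
    by_contra hne
    have hlt : j < n := lt_of_le_of_ne hjn hne
    have h6 : s ∣ r ^ n - r ^ j := (Nat.modEq_iff_dvd' (Nat.pow_le_pow_right hr.pos hjn)).1 h1.symm
    have h7 : r ^ n - r ^ j = r ^ j * (r ^ (n - j) - 1) := by
      rw [Nat.mul_sub, ← pow_add, mul_one, Nat.add_sub_cancel' hjn]
    rw [h7] at h6
    rcases hs.dvd_mul.1 h6 with h8 | h8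
    · exact hrs ((Nat.prime_dvd_prime_iff_eq hs hr).1 (hs.dvd_of_dvd_pow h8))
    · exact hd (n - j) (by omega) (by omega) h8
  have h6 : Q = ⊤ := by
    apply eq_top_of_card_eq
    rw [hj, hn, h5]
  rw [subgroupOf_eq_top] at h6
  rw [mem_centralizer_iff]
  intro y hy
  exact mem_centralizer_singleton_iff.1 (h6 hy)

/-- **Action on `r`-groups.** -/
theorem le_centralizer_of_prime [Finite G] {X P : Subgroup G} {r s k : ℕ} (hX : IsQuasisimple ↥X)
    (hn : X ≤ normalizer (P : Set G)) (hr : r.Prime) (hP : Nat.card ↥P ∣ r ^ k) (hs : s.Prime)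
    (hsX : s ∣ Nat.card (↥X ⧸ center ↥X)) (hrs : s ≠ r)
    (hd : ∀ i, 1 ≤ i → i ≤ k → ¬ s ∣ r ^ i - 1) : X ≤ centralizer (P : Set G) := by
  obtain ⟨x, hx, a, ha⟩ := exists_elt hs hsX
  have h1 : (x : G) ∈ centralizer (P : Set G) :=
    elt_centralizes hr hs (hn x.2) (by rw [orderOf_coe, ha]) hP hrs hd
  rcases le_or_center hX (le_normalizer_centralizer hn) with h | h
  · exact h
  · exact absurd (h h1) hx

/-- the order of `P` -/
theorem card_mul_dvd [Finite G] {X P : Subgroup G} (hX : IsQuasisimple ↥X) (hn : X ≤ normalizer (P : Set G))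
    (hP : ¬ X ≤ P) : Nat.card ↥P * Nat.card (↥X ⧸ center ↥X) ∣ Nat.card G := by
  have h1 := relIndex_mul_dvd X P hn
  rw [mul_comm]
  refine (Nat.mul_dvd_mul_right ?_ _).trans h1
  have h2 : P.subgroupOf X ≤ center ↥X := (le_or_center hX hn).resolve_left hP
  exact index_dvd_of_le h2

/-! ### components -/

/-- isomorphic groups have isomorphic central quotients -/
theorem card_quot_congr {A B : Type u} [Group A] [Group B] (e : A ≃* B) :
    Nat.card (A ⧸ center A) = Nat.card (B ⧸ center B) :=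
  Nat.card_congr (QuotientGroup.congr _ _ e (by
    ext x
    constructor
    · rintro ⟨y, hy, rfl⟩
      rw [SetLike.mem_coe, mem_center_iff] at hy
      rw [mem_center_iff]
      intro z
      have := congrArg e (hy (e.symm z))
      simpa only [_root_.MonoidHom.coe_coe, _root_.map_mul, _root_.MulEquiv.apply_symm_apply] using this
    · intro hx
      refine ⟨e.symm x, ?_, by simp⟩
      rw [SetLike.mem_coe, mem_center_iff]
      intro z
      have := congrArg e.symm ((mem_center_iff.1 hx) (e z))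
      simpa only [_root_.map_mul, _root_.MulEquiv.symm_apply_apply] using this)).toEquiv

theorem card_quot_conj (L : Subgroup G) (g : G) :
    Nat.card (↥(L.map (MulAut.conj g).toMonoidHom) ⧸ center ↥(L.map (MulAut.conj g).toMonoidHom)) =
      Nat.card (↥L ⧸ center ↥L) :=
  (card_quot_congr (L.equivMapOfInjective _ (MulAut.conj g).injective)).symm

/-- a perfect subgroup normalises the component `L` if `|L / Z(L)| ^ 4 ∤ |G|` -/
theorem le_normalizer_comp [Finite G] {X L : Subgroup G} (hX : ⁅X, X⁆ = X) (hL : IsComponent L)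
    (h4 : ¬ Nat.card (↥L ⧸ center ↥L) ^ 4 ∣ Nat.card G) : X ≤ normalizer (L : Set G) := by
  let _ : MulAction ↥X (Subgroup G) :=
    { smul := fun x K => K.map (MulAut.conj (x : G)).toMonoidHom
      one_smul := fun K => by
        show K.map (MulAut.conj ((1 : X) : G)).toMonoidHom = K
        ext y
        constructor
        · rintro ⟨z, hz, rfl⟩
          simpa only [_root_.OneMemClass.coe_one, _root_.map_one, _root_.MulEquiv.toMonoidHom_eq_coe, _root_.MonoidHom.coe_coe, _root_.MulAut.one_apply, _root_.SetLike.mem_coe] using hz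
        · intro hy
          exact ⟨y, hy, by simp only [_root_.OneMemClass.coe_one, _root_.map_one, _root_.MulEquiv.toMonoidHom_eq_coe, _root_.MonoidHom.coe_coe, _root_.MulAut.one_apply]⟩
      mul_smul := fun x y K => by
        show K.map (MulAut.conj ((x * y : X) : G)).toMonoidHom =
          (K.map (MulAut.conj (y : G)).toMonoidHom).map (MulAut.conj (x : G)).toMonoidHom
        rw [Subgroup.map_map]
        congr 1
        ext z
        simp [mul_assoc] }
  have hsm : ∀ (x : ↥X) (K : Subgroup G), x • K = K.map (MulAut.conj (x : G)).toMonoidHom := fun _ _ => rfl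
  have hc : ∀ K ∈ MulAction.orbit ↥X L, IsComponent K ∧ Nat.card (↥K ⧸ center ↥K) = Nat.card (↥L ⧸ center ↥L) := by
    rintro K ⟨x, rfl⟩
    exact ⟨S1270.component_conj hL x, card_quot_conj L x⟩
  have hcard : Nat.card (MulAction.orbit ↥X L) ≤ 4 := by
    by_contra hgt
    push Not at hgt
    have : Fintype (MulAction.orbit ↥X L) := Fintype.ofFinite _
    rw [Nat.card_eq_fintype_card] at hgt
    let f : Fin 4 → Subgroup G := fun i => ((Fintype.equivFin (MulAction.orbit ↥X L)).symm (Fin.castLE hgt.le i)).1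
    have hf : Function.Injective f := by
      intro i j hij
      have h1 := (Fintype.equivFin (MulAction.orbit ↥X L)).symm.injective (Subtype.ext hij)
      exact Fin.castLE_injective _ h1
    refine h4 (pow_dvd _ 4 G f (fun i => (hc _ (Subtype.property _)).2) fun i j hij => ?_)
    exact comp_comm (hc _ (Subtype.property _)).1 (hc _ (Subtype.property _)).1 fun h => hij (hf h)
  intro x hx
  have h1 := Cfsg.Agent.Schreier.Tools.perm_eq_one hX hcard (MulAction.toPermHom ↥X (MulAction.orbit ↥X L)) ⟨x, hx⟩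
    ⟨L, MulAction.mem_orbit_self L⟩
  have h2 : L.map (MulAut.conj x).toMonoidHom = L := congrArg Subtype.val h1
  rw [mem_normalizer_iff]
  intro y
  constructor
  · intro hy
    rw [← h2]
    exact ⟨y, hy, rfl⟩
  · intro hy
    rw [← h2] at hy
    obtain ⟨z, hz, h3⟩ := hy
    have h4 : x * z * x⁻¹ = x * y * x⁻¹ := h3
    have h5 : z = y := by simpa only [_root_.mul_left_inj, _root_.mul_right_inj] using h4
    exact h5 ▸ hz

/-- the Fitting subgroup -/
theorem le_centralizer_fitting [Finite G] {X : Subgroup G}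
    (h : ∀ r : ℕ, r.Prime → X ≤ centralizer (pCore r G : Set G)) : X ≤ centralizer (fittingSubgroup G : Set G) := by
  rw [le_centralizer_iff, Lib.Cores.fittingSubgroup_eq_iSup_pCore]
  refine iSup_le fun p => ?_
  rw [← le_centralizer_iff]
  exact h p p.2

/-- **The frame.** -/
theorem frame [Finite G] {X : Subgroup G} (hX : IsQuasisimple ↥X)
    (hr : ∀ r : ℕ, r.Prime → X ≤ centralizer (pCore r G : Set G))
    (h4 : ∀ L : Subgroup G, IsComponent L → ¬ Nat.card (↥L ⧸ center ↥L) ^ 4 ∣ Nat.card G) :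
    ∃ L : Subgroup G, IsComponent L ∧ X ≤ L ⊔ centralizer (L : Set G) ∧ ¬ X ≤ centralizer (L : Set G) := by
  obtain ⟨L, hL, h⟩ := exists_component (perf_of_qs hX) (qs_ne_bot hX) (le_centralizer_fitting hr)
  exact ⟨L, hL, le_sup_centralizer (perf_of_qs hX) hL.2 (le_normalizer_comp (perf_of_qs hX) hL (h4 L hL)), h⟩

/-- the order of a component on which `X` acts nontrivially -/
theorem dvd_card_comp [Finite G] {X L : Subgroup G} (hX : IsQuasisimple ↥X) (h1 : X ≤ L ⊔ centralizer (L : Set G))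
    (h2 : ¬ X ≤ centralizer (L : Set G)) : Nat.card (↥X ⧸ center ↥X) ∣ Nat.card (↥L ⧸ center ↥L) := by
  set C := centralizer (L : Set G) with hC
  have hLN : L ≤ normalizer (C : Set G) := le_normalizer_centralizer le_normalizer
  have hD : L ⊔ C ≤ normalizer (C : Set G) := sup_le hLN le_normalizer
  have hXN : X ≤ normalizer (C : Set G) := h1.trans hD
  have h3 : C.subgroupOf X ≤ center ↥X := (le_or_center hX hXN).resolve_left h2
  have h4 : Nat.card (↥X ⧸ center ↥X) ∣ C.relIndex X := index_dvd_of_le h3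
  have h5 : Nat.card (↥L ⧸ center ↥L) = C.relIndex L := by
    rw [center_eq]
    rfl
  rw [h5]
  refine h4.trans ?_
  have hn : (C.subgroupOf (L ⊔ C)).Normal := by
    rw [normal_subgroupOf_iff_le_normalizer le_sup_right]
    exact hD
  have h6 : (C.subgroupOf (L ⊔ C)).relIndex (X.subgroupOf (L ⊔ C)) ∣ (C.subgroupOf (L ⊔ C)).index :=
    relIndex_dvd_index_of_normal _ _
  have h7 : (C.subgroupOf (L ⊔ C)).index = C.relIndex L := by
    have h8 : (C.subgroupOf (L ⊔ C)).relIndex (L.subgroupOf (L ⊔ C)) = C.relIndex L := relIndex_subgroupOf le_sup_left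
    have h9 : C.subgroupOf (L ⊔ C) ⊔ L.subgroupOf (L ⊔ C) = ⊤ := by
      apply Subgroup.map_injective (L ⊔ C).subtype_injective
      rw [Subgroup.map_sup, subgroupOf_map_subtype, subgroupOf_map_subtype, ← MonoidHom.range_eq_map,
        Subgroup.range_subtype, inf_eq_left.2 le_sup_right, inf_eq_left.2 le_sup_left, sup_comm]
    have h10 := relIndex_sup_left (L.subgroupOf (L ⊔ C)) (C.subgroupOf (L ⊔ C))
    rw [h9, relIndex_top_right] at h10
    rw [← h8, h10]
  rw [relIndex_subgroupOf h1, h7] at h6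
  exact h6

end Cfsg.Agent.R2.H14.Fr
end

-- part: R2/H14/Fr/Num
section
/-!
# The simple groups whose order divides `|E₇(2)|` (helper14, for S5934, box F)
-/

set_option autoImplicit false

namespace Cfsg.Agent.R2.H14.Fr

open Cfsg Cfsg.Agent.OrdDiv Cfsg.Agent.R2.H27

def l7 : List (ℕ × ℕ) :=
  [(2, 63), (3, 11), (5, 2), (7, 3), (11, 1), (13, 1), (17, 1), (19, 1), (31, 1), (43, 1), (73, 1), (127, 1)]

theorem valid7 : valid l7 N7 = true := by decide +kernel

/-- names and orders of the simple groups whose order divides `N7` -/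
def tab7 : List (Grp × ℕ) := (cands l7 N7).map fun g => (g, ordN g)

theorem exists_tab {S : Type} [Group S] [Finite S] [IsSimpleGroup S] (hna : ¬ IsMulCommutative S)
    (hd : Nat.card S ∣ N7) : ∃ x ∈ tab7, Real x.1 S ∧ Nat.card S = x.2 := by
  have h : IsKnownSimple' S := Cfsg.Agent.S0000.result
  obtain ⟨g, h1, h2, h3⟩ := exists_good table h (fun h => hna ⟨⟨h⟩⟩) valid7 hd
  exact ⟨(g, ordN g), List.mem_map.2 ⟨g, h1, rfl⟩, h2, h3⟩

/-- the explicit list -/
def lst7 : List (Grp × ℕ) := [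
  (.alt 5, 60),
  (.alt 6, 360),
  (.alt 7, 2520),
  (.alt 8, 20160),
  (.alt 9, 181440),
  (.alt 10, 1814400),
  (.alt 11, 19958400),
  (.alt 12, 239500800),
  (.alt 13, 3113510400),
  (.alt 14, 43589145600),
  (.psl 3 2, 168),
  (.psl 4 2, 20160),
  (.psl 5 2, 9999360),
  (.psl 6 2, 20158709760),
  (.psl 7 2, 163849992929280),
  (.psl 8 2, 5348063769211699200),
  (.psl 9 2, 699612310033197642547200),
  (.psl 2 4, 60),
  (.psl 3 4, 20160),
  (.psl 4 4, 987033600),
  (.psl 5 4, 258492255436800),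
  (.psl 2 8, 504),
  (.psl 3 8, 16482816),
  (.psl 4 8, 34558531338240),
  (.psl 2 16, 4080),
  (.psl 3 16, 1425715200),
  (.psl 2 32, 32736),
  (.psl 2 64, 262080),
  (.psl 3 64, 93801727918080),
  (.psl 2 128, 2097024),
  (.psl 2 512, 134217216),
  (.psl 3 3, 5616),
  (.psl 4 3, 6065280),
  (.psl 2 9, 360),
  (.psl 3 9, 42456960),
  (.psl 2 27, 9828),
  (.psl 2 729, 193709880),
  (.psl 2 5, 60),
  (.psl 2 25, 7800),
  (.psl 2 7, 168),
  (.psl 3 7, 1876896),
  (.psl 2 49, 58800),
  (.psl 2 343, 20176632),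
  (.psl 2 11, 660),
  (.psl 2 13, 1092),
  (.psl 2 17, 2448),
  (.psl 2 19, 3420),
  (.psl 2 31, 14880),
  (.psl 2 43, 39732),
  (.psl 2 127, 1024128),
  (.psp 3 2, 1451520),
  (.psp 4 2, 47377612800),
  (.psp 5 2, 24815256521932800),
  (.psp 2 4, 979200),
  (.psp 2 8, 1056706560),
  (.psp 3 8, 9077005607176765440),
  (.psp 2 3, 25920),
  (.psp 3 3, 4585351680),
  (.psu 4 2, 25920),
  (.psu 5 2, 13685760),
  (.psu 6 2, 9196830720),
  (.psu 7 2, 227787103272960),
  (.psu 8 2, 7434971050829414400),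
  (.psu 9 2, 325473292721108444774400),
  (.psu 3 4, 62400),
  (.psu 3 8, 5515776),
  (.psu 4 8, 34693789777920),
  (.psu 3 3, 6048),
  (.psu 4 3, 3265920),
  (.psu 3 9, 42573600),
  (.psu 3 7, 5663616),
  (.oodd 3 3, 4585351680),
  (.oplus 4 2, 174182400),
  (.oplus 5 2, 23499295948800),
  (.oplus 6 2, 50027557148216524800),
  (.ominus 4 2, 197406720),
  (.ominus 5 2, 25015379558400),
  (.g2 4, 251596800),
  (.g2 8, 4329310519296),
  (.g2 3, 4245696),
  (.f4 2, 3311126603366400),
  (.e6 2, 214841575522005575270400),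
  (.e7 2, 7997476042075799759100487262680802918400),
  (.te6 2, 76532479683774853939200),
  (.td4 2, 211341312),
  (.sz 8, 29120),
  (.tits, 17971200),
  (.m11, 7920),
  (.m12, 95040),
  (.m22, 443520),
  (.j1, 175560),
  (.j2, 604800),
  (.j3, 50232960),
  (.suz, 448345497600),
  (.he, 4030387200),
  (.on, 460815505920),
  (.fi22, 64561751654400)]

theorem tab7_eq : tab7 = lst7 := by decide +kernel

theorem tab_all {P : Grp × ℕ → Bool} (h : lst7.all P = true) {x : Grp × ℕ} (hx : x ∈ tab7) : P x = true :=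
  List.all_eq_true.1 h x (tab7_eq ▸ hx)

end Cfsg.Agent.R2.H14.Fr
end

-- part: R2/H14/Fr/Aut
section
/-!
# Orders of some automorphism groups (helper14, for S5934, box F)
-/

set_option autoImplicit false

namespace Cfsg.Agent.R2.H14.Fr

open Cfsg Cfsg.Agent.OrdDiv Cfsg.Agent.H364.OutLie

/-- orders of outer automorphism groups -/
def autTab : List (Grp × ℕ) :=
  [(.psl 6 2, 2), (.psl 8 2, 2), (.psl 5 4, 4), (.psl 2 128, 7), (.psp 4 2, 1), (.psp 5 2, 1), (.psu 6 2, 6),
    (.psu 7 2, 2), (.psu 8 2, 2), (.oplus 4 2, 6), (.oplus 5 2, 2), (.oplus 6 2, 2), (.ominus 5 2, 2), (.f4 2, 2),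
    (.e6 2, 2), (.te6 2, 6), (.td4 2, 3), (.suz, 2), (.fi22, 2)]

section rows

set_option linter.unusedSectionVars false

variable {S : Type} [Group S] [Finite S] [IsSimpleGroup S]

theorem row_psl {n f q : ℕ} (hf : 1 ≤ f) (hq : q = 2 ^ f) (hn : 3 ≤ n) (h : Real (.psl n q) S) :
    Nat.card (MulAut S) = 2 * f * Nat.gcd n (q - 1) * Nat.card S := by
  obtain ⟨F, _, _, hF, ⟨e⟩⟩ := h
  have : Fact (Nat.Prime 2) := ⟨Nat.prime_two⟩
  have h1 := Cfsg.Agent.S0813.result 2 f hf (hF.trans hq) n (by omega) (by omega)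
  rw [mulaut_congr e, h1, card_pgl (by omega), hF, if_neg (by omega), Nat.card_congr e.toEquiv]
  ring

theorem row_psl2 {f q : ℕ} (hf : 2 ≤ f) (hq : q = 2 ^ f) (h : Real (.psl 2 q) S) :
    Nat.card (MulAut S) = f * Nat.gcd 2 (q - 1) * Nat.card S := by
  obtain ⟨F, _, _, hF, ⟨e⟩⟩ := h
  have : Fact (Nat.Prime 2) := ⟨Nat.prime_two⟩
  have h4 : 4 ≤ 2 ^ f := by
    calc 4 = 2 ^ 2 := by norm_num
      _ ≤ _ := Nat.pow_le_pow_right (by norm_num) hf
  have h1 := Cfsg.Agent.S0813.result 2 f (by omega) (hF.trans hq) 2 le_rfl (fun _ => h4)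
  rw [mulaut_congr e, h1, card_pgl le_rfl, hF, if_pos rfl, Nat.card_congr e.toEquiv]
  ring

theorem row_psp {n f q : ℕ} (hf : 1 ≤ f) (hq : q = 2 ^ f) (hn : 3 ≤ n) (h : Real (.psp n q) S) :
    Nat.card (MulAut S) = Nat.gcd 2 (q - 1) * f * Nat.card S := by
  obtain ⟨F, _, _, hF, ⟨e⟩⟩ := h
  have : Fact (Nat.Prime 2) := ⟨Nat.prime_two⟩
  have h1 := Cfsg.Agent.S0814.result 2 f hf (hF.trans hq) n (by omega) (by omega)
  rw [mulaut_congr e, h1, ← hq, if_neg (by omega), Nat.card_congr e.toEquiv]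
  ring

theorem row_psu {n f q : ℕ} (hf : 1 ≤ f) (hq : q = 2 ^ f) (hn : 4 ≤ n) (h : Real (.psu n q) S) :
    Nat.card (MulAut S) = Nat.gcd n (q + 1) * (2 * f) * Nat.card S := by
  obtain ⟨F, _, _, hF, ⟨e⟩⟩ := h
  have : Fact (Nat.Prime 2) := ⟨Nat.prime_two⟩
  have h1 := Cfsg.Agent.S0815.result 2 f hf hq hF n (by omega) (by omega)
  rw [mulaut_congr e, h1, Nat.card_congr e.toEquiv]

theorem row_oplus {n f q : ℕ} (hf : 1 ≤ f) (hq : q = 2 ^ f) (hn : 4 ≤ n) (h : Real (.oplus n q) S) :
    Nat.card (MulAut S) = (if n = 4 then 3 else 1) * 2 * f * Nat.card S := by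
  obtain ⟨F, _, _, hF, ⟨e⟩⟩ := h
  have : Fact (Nat.Prime 2) := ⟨Nat.prime_two⟩
  have h1 := Cfsg.Agent.S0817.result 2 f hf (hF.trans hq) n hn
  rw [mulaut_congr e, h1, if_pos rfl, Nat.card_congr e.toEquiv]

theorem row_ominus {n f q : ℕ} (hf : 1 ≤ f) (hq : q = 2 ^ f) (hn : 4 ≤ n) (h : Real (.ominus n q) S) :
    Nat.card (MulAut S) = 2 * f * Nat.card S := by
  obtain ⟨F, _, _, a, b, hF, hab, ⟨e⟩⟩ := h
  have : Fact (Nat.Prime 2) := ⟨Nat.prime_two⟩
  have h1 := Cfsg.Agent.S0818.result 2 f hf (hF.trans hq) n hn a b hab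
  rw [mulaut_congr e, h1, if_pos rfl, Nat.card_congr e.toEquiv]

theorem aut_of_out (hna : ¬ IsMulCommutative S) {c : ℕ} (h : Nat.card (Out S) = c) :
    Nat.card (MulAut S) = c * Nat.card S := by
  rw [← H934.OutB.card_out_mul S hna, h]

theorem aut_row (hna : ¬ IsMulCommutative S) {x : Grp × ℕ} (hx : x ∈ autTab) (h : Real x.1 S) :
    Nat.card (MulAut S) = x.2 * Nat.card S := by
  have h2 : Fact (Nat.Prime 2) := ⟨Nat.prime_two⟩
  simp only [autTab, List.mem_cons, List.not_mem_nil, or_false] at hx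
  rcases hx with rfl | rfl | rfl | rfl | rfl | rfl | rfl | rfl | rfl | rfl | rfl | rfl | rfl | rfl | rfl | rfl | rfl |
    rfl | rfl
  · exact row_psl (f := 1) le_rfl (by norm_num) (by norm_num) h
  · exact row_psl (f := 1) le_rfl (by norm_num) (by norm_num) h
  · exact row_psl (f := 2) (by norm_num) (by norm_num) (by norm_num) h
  · exact row_psl2 (f := 7) (by norm_num) (by norm_num) h
  · exact row_psp (f := 1) le_rfl (by norm_num) (by norm_num) h
  · exact row_psp (f := 1) le_rfl (by norm_num) (by norm_num) h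
  · exact row_psu (f := 1) le_rfl (by norm_num) (by norm_num) h
  · exact row_psu (f := 1) le_rfl (by norm_num) (by norm_num) h
  · exact row_psu (f := 1) le_rfl (by norm_num) (by norm_num) h
  · exact row_oplus (f := 1) le_rfl (by norm_num) (by norm_num) h
  · exact row_oplus (f := 1) le_rfl (by norm_num) (by norm_num) h
  · exact row_oplus (f := 1) le_rfl (by norm_num) (by norm_num) h
  · exact row_ominus (f := 1) le_rfl (by norm_num) (by norm_num) h
  · obtain ⟨F, _, _, hF, ⟨e⟩⟩ := h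
    have hF' : Fintype.card F = 2 ^ 1 := hF
    have := charP_of_card Nat.prime_two le_rfl hF'
    refine aut_of_out hna ?_
    rw [H934.OutB.card_out_congr e, Cfsg.Agent.S2122.result 2 1 hF']
    rfl
  · obtain ⟨F, _, _, hF, ⟨e⟩⟩ := h
    have hF' : Fintype.card F = 2 ^ 1 := hF
    have := charP_of_card Nat.prime_two le_rfl hF'
    refine aut_of_out hna ?_
    rw [H934.OutB.card_out_congr e, Cfsg.Agent.S2123.result 2 1 hF']
    rfl
  · obtain ⟨F, _, _, hF, ⟨e⟩⟩ := h
    have hF' : Fintype.card F = 2 ^ (2 * 1) := hF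
    have := charP_of_card Nat.prime_two (by norm_num) hF'
    refine aut_of_out hna ?_
    have h1 := Cfsg.Agent.S2130.result 2 1 hF' le_rfl
    rw [H934.OutB.card_out_congr e]
    exact h1
  · obtain ⟨F, _, _, hF, ⟨e⟩⟩ := h
    have hF' : Fintype.card F = 2 ^ (3 * 1) := hF
    have := charP_of_card Nat.prime_two (by norm_num) hF'
    refine aut_of_out hna ?_
    have h1 := Cfsg.Agent.S2129.result 2 1 hF' le_rfl
    rw [H934.OutB.card_out_congr e]
    exact h1
  · obtain ⟨e⟩ := h
    refine aut_of_out hna ?_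
    rw [H934.OutB.card_out_congr e, Cfsg.Agent.S2074.result]
  · obtain ⟨e⟩ := h
    refine aut_of_out hna ?_
    rw [H934.OutB.card_out_congr e, Cfsg.Agent.S2079.result]

end rows

end Cfsg.Agent.R2.H14.Fr
end

-- part: R2/H14/Fr/Ctx
section
/-!
# The frame for the subgroups of `E₇(2)` (helper14, for S5934, box F)
-/

set_option autoImplicit false

namespace Cfsg.Agent.R2.H14.Fr

open Cfsg Subgroup Cfsg.Agent.Schreier.Basic Cfsg.Agent.OrdDiv Cfsg.Agent.R2.H27
open scoped commutatorElement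

universe u

section general

variable {G : Type u} [Group G]

/-- simple groups whose order is not a prime -/
theorem not_comm_of_card {K : Type u} [Group K] [IsSimpleGroup K] (h : ¬ (Nat.card K).Prime) :
    ¬ IsMulCommutative K := by
  intro hc
  let _ : CommGroup K := { (inferInstance : Group K) with mul_comm := hc.is_comm.comm }
  exact h IsSimpleGroup.prime_card

theorem center_of_simple {K : Type u} [Group K] [IsSimpleGroup K] (hna : ¬ IsMulCommutative K) : center K = ⊥ := by
  rcases (inferInstance : (center K).Normal).eq_bot_or_eq_top with h | h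
  · exact h
  · refine absurd ⟨⟨fun a b => ?_⟩⟩ hna
    have : b ∈ center K := h ▸ mem_top b
    exact mem_center_iff.1 this a

theorem qs_of_simple {K : Type u} [Group K] [IsSimpleGroup K] (hna : ¬ IsMulCommutative K) :
    IsQuasisimple K ∧ Nat.card (K ⧸ center K) = Nat.card K := by
  have hz := center_of_simple hna
  have e : K ⧸ center K ≃* K := (QuotientGroup.quotientMulEquivOfEq hz).trans QuotientGroup.quotientBot
  refine ⟨⟨⟨?_⟩, (MulEquiv.isSimpleGroup_congr e).2 inferInstance⟩, Nat.card_congr e.toEquiv⟩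
  rcases (inferInstance : (commutator K).Normal).eq_bot_or_eq_top with h | h
  · refine absurd ⟨⟨fun a b => ?_⟩⟩ hna
    have h1 : ⁅a, b⁆ ∈ commutator K := by
      rw [commutator_def]
      exact commutator_mem_commutator (mem_top a) (mem_top b)
    rw [h, mem_bot] at h1
    exact commutatorElement_eq_one_iff_mul_comm.1 h1
  · exact h

/-- `X ≤ L` or `|X / Z(X)| |L / Z(L)|` divides `|G|` -/
theorem le_of_norm [Finite G] {X L : Subgroup G} (hX : IsQuasisimple ↥X) (hn : X ≤ normalizer (L : Set G))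
    (hd : ¬ Nat.card (↥X ⧸ center ↥X) * Nat.card (↥L ⧸ center ↥L) ∣ Nat.card G) : X ≤ L := by
  by_contra hXL
  refine hd ?_
  have h1 := card_mul_dvd hX hn hXL
  rw [mul_comm]
  refine (Nat.mul_dvd_mul_right ?_ _).trans h1
  exact card_quotient_dvd_card (center ↥L)

/-- equality from orders -/
theorem eq_of_card [Finite G] {X L : Subgroup G} (hX : ⁅X, X⁆ = X) (hL : IsQuasisimple ↥L) (hXL : X ≤ L)
    (hc : Nat.card (↥L ⧸ center ↥L) ≤ Nat.card (↥X ⧸ center ↥X)) : X = L := by
  set Y := X.subgroupOf L with hY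
  have hYp : ⁅Y, Y⁆ = Y := subgroupOf_perfect hX hXL
  have h1 : Nat.card (↥X ⧸ center ↥X) ∣ (center ↥L).relIndex Y := by
    have h2 : (center ↥L).subgroupOf Y ≤ center ↥Y := by
      intro y hy
      rw [mem_center_iff]
      intro z
      exact Subtype.ext (mem_center_iff.1 hy z)
    have h3 : Nat.card (↥X ⧸ center ↥X) = Nat.card (↥Y ⧸ center ↥Y) :=
      card_quot_congr (subgroupOfEquivOfLe hXL).symm
    rw [h3]
    exact index_dvd_of_le h2
  have h2 : (center ↥L).relIndex Y ∣ (center ↥L).index := relIndex_dvd_index_of_normal _ _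
  have h3 : (center ↥L).relIndex Y = (center ↥L).index := by
    apply Nat.le_antisymm (Nat.le_of_dvd (Nat.pos_of_ne_zero index_ne_zero_of_finite) h2)
    exact hc.trans (Nat.le_of_dvd (Nat.pos_of_ne_zero (index_ne_zero_of_finite)) h1)
  have h4 : Y ⊔ center ↥L = ⊤ := by
    have h5 : (center ↥L).relIndex (Y ⊔ center ↥L) = (center ↥L).index := by
      rw [relIndex_sup_right, h3]
    have h6 := relIndex_mul_index (le_sup_right : center ↥L ≤ Y ⊔ center ↥L)
    rw [h5] at h6
    have h7 : (center ↥L).index ≠ 0 := index_ne_zero_of_finite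
    have h8 : (Y ⊔ center ↥L).index = 1 := by
      have := Nat.eq_of_mul_eq_mul_left (Nat.pos_of_ne_zero h7) (h6.trans (mul_one _).symm)
      exact this
    exact index_eq_one.1 h8
  have h5 : commutator ↥L ≤ Y := by
    rw [commutator_def, ← h4, commutator_le]
    intro a ha b hb
    obtain ⟨n, hn, z, hz, rfl⟩ := mem_sup_of_normal_right.1 ha
    obtain ⟨m, hm, w, hw, rfl⟩ := mem_sup_of_normal_right.1 hb
    have c1 := mem_center_iff.1 hz
    have c2 := mem_center_iff.1 hw
    have h5 : n * z * (m * w) = n * m * (z * w) := by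
      calc n * z * (m * w) = n * (z * m) * w := by group
        _ = n * (m * z) * w := by rw [c1]
        _ = _ := by group
    have h6 : m * w * (n * z) = m * n * (z * w) := by
      calc m * w * (n * z) = m * (w * n) * z := by group
        _ = m * (n * w) * z := by rw [c2]
        _ = m * n * (w * z) := by group
        _ = _ := by rw [c1]
    have h7 : ⁅n * z, m * w⁆ = ⁅n, m⁆ := by
      have h8 : ⁅n * z, m * w⁆ = (n * z * (m * w)) * (m * w * (n * z))⁻¹ := by
        rw [commutatorElement_def]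
        group
      rw [h8, h5, h6, commutatorElement_def]
      group
    rw [h7, commutatorElement_def]
    exact Y.mul_mem (Y.mul_mem (Y.mul_mem hn hm) (Y.inv_mem hn)) (Y.inv_mem hm)
  rw [hL.1.commutator_eq_top, top_le_iff, hY, subgroupOf_eq_top] at h5
  exact le_antisymm hXL h5

/-- a component is normal if `|L / Z(L)| ^ 2 ∤ |G|` -/
theorem comp_normal [Finite G] {L : Subgroup G} (hL : IsComponent L)
    (h2 : ¬ Nat.card (↥L ⧸ center ↥L) ^ 2 ∣ Nat.card G) : L.Normal := by
  have key : ∀ g : G, L.map (MulAut.conj g).toMonoidHom = L := by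
    intro g
    by_contra hne
    have hL' := S1270.component_conj hL g
    refine h2 (pow_dvd _ 2 G ![L, L.map (MulAut.conj g).toMonoidHom] (fun i => ?_) fun i j hij => ?_)
    · fin_cases i
      · rfl
      · exact card_quot_conj L g
    · fin_cases i <;> fin_cases j
      · exact absurd rfl hij
      · exact comp_comm hL hL' fun h => hne h.symm
      · exact comp_comm hL' hL hne
      · exact absurd rfl hij
  constructor
  intro n hn g
  rw [← key g]
  exact ⟨n, hn, rfl⟩

/-- the kernel of the action on `X / Z(X)` -/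
theorem card_dvd_aut [Finite G] {X : Subgroup G} [X.Normal] (hX : IsQuasisimple ↥X) :
    Nat.card G ∣ Nat.card (MulAut (↥X ⧸ center ↥X)) * Nat.card ↥(centralizer (X : Set G)) := by
  let f : G →* MulAut (↥X ⧸ center ↥X) := StdRank2.SchQuot.quoC.comp (MulAut.conjNormal : G →* MulAut X)
  have hk : f.ker ≤ centralizer (X : Set G) := by
    intro g hg
    have h2 : ∀ x : X, (x)⁻¹ * (MulAut.conjNormal g : MulAut X) x ∈ center ↥X := by
      intro x
      have h3 : f g (QuotientGroup.mk x) = QuotientGroup.mk x := by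
        rw [MonoidHom.mem_ker.1 hg]
        rfl
      rw [← QuotientGroup.eq]
      exact h3.symm
    let δ : ↥X →* center ↥X :=
      { toFun := fun x => ⟨x⁻¹ * (MulAut.conjNormal g : MulAut X) x, h2 x⟩
        map_one' := by
          apply Subtype.ext
          simp only [_root_.inv_one, _root_.map_one, _root_.mul_one, _root_.OneMemClass.coe_one]
        map_mul' := fun x y => by
          apply Subtype.ext
          show (x * y)⁻¹ * (MulAut.conjNormal g : MulAut X) (x * y) =
            (x⁻¹ * (MulAut.conjNormal g : MulAut X) x) * (y⁻¹ * (MulAut.conjNormal g : MulAut X) y)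
          have h3 := Subgroup.mem_center_iff.1 (h2 x) y⁻¹
          calc (x * y)⁻¹ * (MulAut.conjNormal g : MulAut X) (x * y) =
              y⁻¹ * (x⁻¹ * (MulAut.conjNormal g : MulAut X) x) * (MulAut.conjNormal g : MulAut X) y := by
                rw [map_mul]; group
            _ = _ := by rw [h3]; group }
    have h4 : ∀ x, δ x = 1 := by
      intro x
      have h5 : _root_.commutator ↥X ≤ δ.ker := by
        rw [_root_.commutator_def, Subgroup.commutator_le]
        intro a _ b _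
        rw [MonoidHom.mem_ker, map_commutatorElement]
        exact commutatorElement_eq_one_iff_mul_comm.2 (Subtype.ext (Subgroup.mem_center_iff.1 (δ b).2 (δ a)))
      rw [hX.1.commutator_eq_top] at h5
      exact h5 (Subgroup.mem_top x)
    rw [mem_centralizer_iff]
    intro x hx
    have h5 : (⟨x, hx⟩ : X)⁻¹ * (MulAut.conjNormal g : MulAut X) ⟨x, hx⟩ = 1 := congrArg Subtype.val (h4 ⟨x, hx⟩)
    rw [inv_mul_eq_one] at h5
    have h6 : x = g * x * g⁻¹ := congrArg Subtype.val h5
    calc x * g = g * x * g⁻¹ * g := by rw [← h6]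
      _ = g * x := by group
  have hfin : Finite (MulAut (↥X ⧸ center ↥X)) :=
    Finite.of_injective (fun f : MulAut (↥X ⧸ center ↥X) => (f : ↥X ⧸ center ↥X → ↥X ⧸ center ↥X))
      DFunLike.coe_injective
  have h1 : Nat.card G = Nat.card f.range * Nat.card f.ker := by
    rw [← Nat.card_congr (QuotientGroup.quotientKerEquivRange f).toEquiv]
    exact card_eq_card_quotient_mul_card_subgroup f.ker
  rw [h1]
  exact Nat.mul_dvd_mul (card_subgroup_dvd_card _) (card_dvd_of_le hk)

/-- a perfect group acts trivially on normal subgroups of prime order -/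
theorem le_centralizer_of_cyclic [Finite G] {X P : Subgroup G} [hn : P.Normal] (hX : ⁅X, X⁆ = X) (hP : IsCyclic ↥P) :
    X ≤ centralizer (P : Set G) := by
  have hc : Group.IsSolvable (MulAut ↥P) := by
    have e : MulAut ↥P ≃* (ZMod (Nat.card ↥P))ˣ := IsCyclic.mulAutMulEquiv ↥P
    exact Group.isSolvable_of_isSolvable_injective (f := e.toMonoidHom) e.injective
  intro x hx
  have h1 := apply_eq_one_of_perfect (MulAut.conjNormal : G →* MulAut P) hX hx
  rw [mem_centralizer_iff]
  intro y hy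
  have h2 : x * y * x⁻¹ = y := congrArg (fun f : MulAut P => ((f ⟨y, hy⟩ : P) : G)) h1
  calc y * x = x * y * x⁻¹ * x := by rw [h2]
    _ = x * y := by group

end general

end Cfsg.Agent.R2.H14.Fr
end

private theorem dce_4266857aa399 : _root_.True := by
  try have : _root_.True := by simp only [_root_.Cfsg.Agent.R2.H14.Fr.autTab.eq_1]
  exact _root_.True.intro
end

section
prune_inst 0xbdb8f9b9b931deffff7e77ffdcddfdfdb87fffacdff9cbffe86bff3f9f6b02c9c563ad0fe090fe0e96c21610e87b43fbffce7fea6bdc7ffffd5ff41ffbfe0fffffb508119588340f3c6ff693f0778e7f000000000000000000000000000000000200000000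

-- part: R2/H14/Fr/BoxD
section
prune_inst 0x40460206440c0100000008002102020045800053000230000690008060808432389802f00b490160613ca82a1400940000000005900000000200006004001000000a956062350ad0c300096801884000000000000000000000000000000000004000000000
set_option linter.all false
open scoped Cfsg.Agent.FastGrp

-- part: R2/H14/Fr/Seven
section
/-!
# The frame for the subgroups of `E₇(2)` (helper14, for S5934, box F)

* `cent_r`, `cent_all` : quasisimple subgroups centralise `O_r(M)`;
* `comp_tab` : the components of `M`;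
* `frame7` : the component on which `X` acts nontrivially.
-/

set_option autoImplicit false

namespace Cfsg.Agent.R2.H14.Fr

open Cfsg Subgroup Cfsg.Agent.Schreier.Basic Cfsg.Agent.OrdDiv Cfsg.Agent.R2.H27
open scoped commutatorElement

variable {M : Type} [Group M]

theorem not_le_pcore [Finite M] {X : Subgroup M} (hX : IsQuasisimple ↥X) {r : ℕ} (hr : r.Prime) :
    ¬ X ≤ pCore r M := by
  intro h
  have : Fact r.Prime := ⟨hr⟩
  have h1 : IsPGroup r ↥X := (Lib.Cores.pCore_isPGroup r).to_le h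
  have h2 : Group.IsNilpotent ↥X := h1.isNilpotent
  have h3 : Group.IsSolvable ↥X := inferInstance
  exact qs_ne_bot hX (eq_bot_of_perfect_of_solvable (perf_of_qs hX) h3)

theorem card_pcore [Finite M] {r : ℕ} (hr : r.Prime) : ∃ j, Nat.card ↥(pCore r M) = r ^ j := by
  have : Fact r.Prime := ⟨hr⟩
  exact IsPGroup.iff_card.1 (Lib.Cores.pCore_isPGroup r)

/-- a quasisimple subgroup centralises `O_r(M)` -/
theorem cent_r (h : Sub7 M) {X : Subgroup M} (hX : IsQuasisimple ↥X) (r s k : ℕ) (hr : r.Prime) (hs : s.Prime)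
    (hsx : s ∣ Nat.card (↥X ⧸ center ↥X)) (hk : ¬ r ^ (k + 1) * Nat.card (↥X ⧸ center ↥X) ∣ N7) (hrs : s ≠ r)
    (hd : ∀ i ∈ Finset.Icc 1 k, ¬ s ∣ r ^ i - 1) : X ≤ centralizer (pCore r M : Set M) := by
  have := h.fin
  have hn : X ≤ normalizer (pCore r M : Set M) := by
    rw [normalizer_eq_top]
    exact le_top
  obtain ⟨j, hj⟩ := card_pcore (M := M) hr
  have h1 := card_mul_dvd hX hn (not_le_pcore hX hr)
  have h2 : j ≤ k := by
    by_contra hlt
    push Not at hlt
    refine hk ((Nat.mul_dvd_mul_right ?_ _).trans (h1.trans h.card))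
    rw [hj]
    exact pow_dvd_pow r hlt
  refine le_centralizer_of_prime hX hn hr (k := k) ?_ hs hsx hrs fun i h1 h2 => hd i (Finset.mem_Icc.2 ⟨h1, h2⟩)
  rw [hj]
  exact pow_dvd_pow r h2

theorem prime_lt {r : ℕ} (hr : r.Prime) (h : r ^ 2 ∣ N7) : r = 2 ∨ r = 3 ∨ r = 5 ∨ r = 7 := by
  obtain ⟨k, hk, hk2⟩ := exists_pair valid7 hr (by norm_num) h
  simp only [l7, List.mem_cons, Prod.mk.injEq, List.not_mem_nil, or_false] at hk
  omega

/-- small `O_r(M)` -/
theorem cent_small (h : Sub7 M) {X : Subgroup M} (hX : ⁅X, X⁆ = X) {r : ℕ} (hr : r.Prime)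
    (hP : ¬ r ^ 2 ∣ Nat.card ↥(pCore r M)) : X ≤ centralizer (pCore r M : Set M) := by
  have := h.fin
  have : Fact r.Prime := ⟨hr⟩
  obtain ⟨j, hj⟩ := card_pcore (M := M) hr
  have h2 : j ≤ 1 := by
    by_contra hlt
    push Not at hlt
    exact hP (hj ▸ pow_dvd_pow r hlt)
  have hc : IsCyclic ↥(pCore r M) := by
    interval_cases j
    · have : Subsingleton ↥(pCore r M) := (Nat.card_eq_one_iff_unique.1 (hj.trans (pow_zero r))).1
      exact isCyclic_of_subsingleton
    · exact isCyclic_of_prime_card (hj.trans (pow_one r))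
  exact le_centralizer_of_cyclic hX hc

theorem cent_big (h : Sub7 M) {X : Subgroup M} (hX : ⁅X, X⁆ = X) {r : ℕ} (hr : r.Prime)
    (h2 : r ≠ 2) (h3 : r ≠ 3) (h5 : r ≠ 5) (h7 : r ≠ 7) : X ≤ centralizer (pCore r M : Set M) := by
  have := h.fin
  refine cent_small h hX hr fun hd => ?_
  rcases prime_lt hr ((hd.trans (card_subgroup_dvd_card _)).trans h.card) with h | h | h | h
  · exact h2 h
  · exact h3 h
  · exact h5 h
  · exact h7 h

theorem cent_all (h : Ctx M) {X : Subgroup M} (hX : ⁅X, X⁆ = X) (h3 : X ≤ centralizer (pCore 3 M : Set M))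
    (h5 : X ≤ centralizer (pCore 5 M : Set M)) (h7 : X ≤ centralizer (pCore 7 M : Set M)) (r : ℕ) (hr : r.Prime) :
    X ≤ centralizer (pCore r M : Set M) := by
  by_cases e2 : r = 2
  · subst e2
    rw [h.core, le_centralizer_iff]
    exact bot_le
  by_cases e3 : r = 3
  · exact e3 ▸ h3
  by_cases e5 : r = 5
  · exact e5 ▸ h5
  by_cases e7 : r = 7
  · exact e7 ▸ h7
  exact cent_big h.toSub7 hX hr e2 e3 e5 e7

theorem tab_pow4 : (lst7.all fun x => N7 % x.2 ^ 4 != 0) = true := by decide +kernel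

/-- the components of `M` -/
theorem comp_tab (h : Ctx M) {L : Subgroup M} (hL : IsComponent L) : ∃ x ∈ tab7, x.2 ≠ N7 ∧
    Real x.1 (↥L ⧸ center ↥L) ∧ Nat.card (↥L ⧸ center ↥L) = x.2 := by
  have := h.fin
  have hs := hL.2.2
  have h1 : Nat.card (↥L ⧸ center ↥L) ∣ Nat.card M := (Dvd.intro _ rfl).trans (card_mul_centralizer_dvd L)
  obtain ⟨x, hx, hr, hc⟩ := exists_tab (Schreier.KBalance.not_isMulCommutative_quotient hL.2) (h1.trans h.card)
  refine ⟨x, hx, fun hn => h.ne ?_, hr, hc⟩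
  rw [hc, hn] at h1
  exact Nat.dvd_antisymm h.card h1

theorem comp_pow4 (h : Ctx M) {L : Subgroup M} (hL : IsComponent L) :
    ¬ Nat.card (↥L ⧸ center ↥L) ^ 4 ∣ Nat.card M := by
  intro hd
  obtain ⟨x, hx, -, -, hc⟩ := comp_tab h hL
  have h1 := tab_all tab_pow4 hx
  rw [hc] at hd
  rw [Nat.mod_eq_zero_of_dvd (hd.trans h.card)] at h1
  exact absurd h1 (by decide)

/-- **The frame.** -/
theorem frame7 (h : Ctx M) {X : Subgroup M} (hX : IsQuasisimple ↥X)
    (h3 : X ≤ centralizer (pCore 3 M : Set M)) (h5 : X ≤ centralizer (pCore 5 M : Set M))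
    (h7 : X ≤ centralizer (pCore 7 M : Set M)) :
    ∃ L : Subgroup M, IsComponent L ∧ X ≤ L ⊔ centralizer (L : Set M) ∧ ¬ X ≤ centralizer (L : Set M) ∧
      X ≤ normalizer (L : Set M) ∧ ∃ x ∈ tab7, x.2 ≠ N7 ∧ Real x.1 (↥L ⧸ center ↥L) ∧
        Nat.card (↥L ⧸ center ↥L) = x.2 ∧ Nat.card (↥X ⧸ center ↥X) ∣ x.2 := by
  have := h.fin
  obtain ⟨L, hL, h1, h2⟩ := frame hX (cent_all h (perf_of_qs hX) h3 h5 h7) fun L hL => comp_pow4 h hL
  obtain ⟨x, hx, hn, hr, hc⟩ := comp_tab h hL
  exact ⟨L, hL, h1, h2, le_normalizer_comp (perf_of_qs hX) hL (comp_pow4 h hL), x, hx, hn, hr, hc,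
    hc ▸ dvd_card_comp hX h1 h2⟩

/-- the case of a component in which `X` fills everything -/
theorem frame_eq (h : Ctx M) {X : Subgroup M} (hX : IsQuasisimple ↥X)
    (h3 : X ≤ centralizer (pCore 3 M : Set M)) (h5 : X ≤ centralizer (pCore 5 M : Set M))
    (h7 : X ≤ centralizer (pCore 7 M : Set M))
    (h2 : ¬ Nat.card (↥X ⧸ center ↥X) ^ 2 ∣ N7)
    (hex : ∀ L : Subgroup M, IsComponent L → X ≤ L → ∀ x ∈ tab7, x.2 ≠ N7 → Real x.1 (↥L ⧸ center ↥L) →
      Nat.card (↥L ⧸ center ↥L) = x.2 → Nat.card (↥X ⧸ center ↥X) ∣ x.2 → x.2 = Nat.card (↥X ⧸ center ↥X)) :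
    IsComponent X ∧ X.Normal := by
  have := h.fin
  obtain ⟨L, hL, -, -, hn, x, hx, hxn, hr, hc, hd⟩ := frame7 h hX h3 h5 h7
  have h4 : X ≤ L := le_of_norm hX hn fun h5 => h2 (by
    rw [pow_two]
    exact (Nat.mul_dvd_mul_left _ (hc ▸ hd)).trans (h5.trans h.card))
  have h5 := hex L hL h4 x hx hxn hr hc hd
  have h6 : X = L := eq_of_card (perf_of_qs hX) hL.2 h4 (by rw [hc, h5])
  subst h6
  exact ⟨hL, comp_normal hL fun h7 => h2 (h7.trans h.card)⟩

end Cfsg.Agent.R2.H14.Fr
end

-- part: R2/H14/Fr/BoxA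
section
/-!
# Boxes F1, F3, F10 of S5934 (helper14)
-/

set_option autoImplicit false

namespace Cfsg.Agent.R2.H14.Fr

open Cfsg Subgroup Cfsg.Agent.Schreier.Basic Cfsg.Agent.OrdDiv Cfsg.Agent.R2.H27
open scoped commutatorElement

variable {M : Type} [Group M]

def chk1 (c r s k : ℕ) : Bool :=
  isPrimeB r && isPrimeB s && c % s == 0 && N7 % (r ^ (k + 1) * c) != 0 && s != r &&
    (List.range k).all fun i => (r ^ (i + 1) - 1) % s != 0

theorem cent_chk (h : Sub7 M) {X : Subgroup M} (hX : IsQuasisimple ↥X) {c : ℕ}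
    (hc : Nat.card (↥X ⧸ center ↥X) = c) {r s k : ℕ} (hk : chk1 c r s k = true) :
    X ≤ centralizer (pCore r M : Set M) := by
  unfold chk1 at hk
  simp only [Bool.and_eq_true, List.all_eq_true, List.mem_range, bne_iff_ne, beq_iff_eq] at hk
  obtain ⟨⟨⟨⟨⟨h1, h2⟩, h3⟩, h4⟩, h5⟩, h6⟩ := hk
  refine cent_r h hX r s k (prime_of h1) (prime_of h2) (hc ▸ Nat.dvd_of_mod_eq_zero h3) ?_ h5 ?_
  · rw [hc]
    intro hd
    exact h4 (Nat.mod_eq_zero_of_dvd hd)
  · intro i hi hd
    rw [Finset.mem_Icc] at hi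
    refine h6 (i - 1) (by omega) ?_
    rw [Nat.sub_add_cancel hi.1]
    exact Nat.mod_eq_zero_of_dvd hd

/-- all the checks -/
def chk (c s k s5 s7 : ℕ) : Bool := chk1 c 3 s k && chk1 c 5 s5 2 && chk1 c 7 s7 3

theorem frame_eq' (h : Ctx M) {X : Subgroup M} (hX : IsQuasisimple ↥X) {c s k s5 s7 : ℕ}
    (hc : Nat.card (↥X ⧸ center ↥X) = c) (hk : chk c s k s5 s7 = true) (h2 : N7 % c ^ 2 ≠ 0)
    (hex : ∀ L : Subgroup M, IsComponent L → X ≤ L → ∀ x ∈ tab7, x.2 ≠ N7 → Real x.1 (↥L ⧸ center ↥L) →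
      Nat.card (↥L ⧸ center ↥L) = x.2 → c ∣ x.2 → x.2 = c) :
    IsComponent X ∧ X.Normal := by
  unfold chk at hk
  simp only [Bool.and_eq_true] at hk
  refine frame_eq h hX (cent_chk h.toSub7 hX hc hk.1.1) (cent_chk h.toSub7 hX hc hk.1.2)
    (cent_chk h.toSub7 hX hc hk.2) (fun hd => h2 (Nat.mod_eq_zero_of_dvd (hc ▸ hd))) ?_
  rw [hc]
  exact hex

/-- the order from the order of the automorphism group -/
theorem card_dvd (h : Ctx M) {X : Subgroup M} (hX : IsComponent X) (hn : X.Normal) {c : ℕ} {g : Grp} {a : ℕ}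
    (hc : Nat.card (↥X ⧸ center ↥X) = c) (hg : (lst7.all fun x => x.2 != c || decide (x.1 = g)) = true)
    (ha : (g, a) ∈ autTab) : Nat.card M ∣ a * c * Nat.card ↥(centralizer (X : Set M)) := by
  have := h.fin
  have hs := hX.2.2
  obtain ⟨x, hx, -, hr, hcx⟩ := comp_tab h hX
  have h1 := tab_all hg hx
  rw [Bool.or_eq_true, bne_iff_ne, decide_eq_true_eq] at h1
  have h2 : x.1 = g := h1.resolve_left fun hne => hne (hcx.symm.trans hc)
  rw [h2] at hr
  have h3 := aut_row (Schreier.KBalance.not_isMulCommutative_quotient hX.2) ha hr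
  have h4 := card_dvd_aut hX.2
  rw [h3, hc] at h4
  exact h4

theorem not_prime_of_two {n : ℕ} (h : n % 2 = 0) (h2 : n ≠ 2) : ¬ n.Prime := fun hp =>
  h2 ((Nat.prime_dvd_prime_iff_eq Nat.prime_two hp).1 (Nat.dvd_of_mod_eq_zero h)).symm

theorem simple_qs [Finite M] {X : Subgroup M} (hs : IsSimpleGroup ↥X) {c : ℕ} (hc : Nat.card ↥X = c)
    (h2 : c % 2 = 0) (h2' : c ≠ 2) : IsQuasisimple ↥X ∧ Nat.card (↥X ⧸ center ↥X) = c ∧ center ↥X = ⊥ := by
  have hna : ¬ IsMulCommutative ↥X := not_comm_of_card (by rw [hc]; exact not_prime_of_two h2 h2')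
  exact ⟨(qs_of_simple hna).1, (qs_of_simple hna).2.trans hc, center_of_simple hna⟩

/-- the centralizer of `X` from a self-centralising element -/
theorem cent_bot [Finite M] {X : Subgroup M} (hX : center ↥X = ⊥) {z : M} (hz : z ∈ X)
    (hc : Nat.card (centralizer {z} : Subgroup M) ∣ orderOf z) : centralizer (X : Set M) = ⊥ := by
  have h1 : zpowers z ≤ centralizer {z} := by
    rw [zpowers_le, mem_centralizer_singleton_iff]
  have h2 : zpowers z = centralizer {z} := by
    apply eq_of_le_of_card_ge h1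
    rw [Nat.card_zpowers]
    exact Nat.le_of_dvd (orderOf_pos z) hc
  have h3 : centralizer (X : Set M) ≤ X := by
    refine (centralizer_le (Set.singleton_subset_iff.2 hz)).trans ?_
    rw [← h2, zpowers_le]
    exact hz
  rw [eq_bot_iff]
  intro y hy
  have h4 : (⟨y, h3 hy⟩ : ↥X) ∈ center ↥X := by
    rw [mem_center_iff]
    intro w
    exact Subtype.ext (mem_centralizer_iff.1 hy w w.2)
  rw [hX, mem_bot] at h4
  exact mem_bot.2 (congrArg Subtype.val h4)

theorem exists_order [Finite M] {X : Subgroup M} {s : ℕ} (hs : s.Prime) (h : s ∣ Nat.card ↥X) :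
    ∃ z ∈ X, orderOf z = s := by
  have : Fact s.Prime := ⟨hs⟩
  obtain ⟨z, hz⟩ := exists_prime_orderOf_dvd_card' s h
  exact ⟨z, z.2, by rw [orderOf_coe]; exact hz⟩

theorem pr (n : ℕ) (h : isPrimeB n = true) : n.Prime := prime_of h

/-- **Box F1.** -/
theorem boxF1 : BoxF1 := by
  intro M _ h X hs hc
  have := h.fin
  obtain ⟨hq, hcz, hz⟩ := simple_qs hs hc (by decide +kernel) (by decide +kernel)
  obtain ⟨h1, h2⟩ := frame_eq' h hq (c := oE6) (s := 7) (k := 5) (s5 := 7) (s7 := 5) hcz (by decide +kernel)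
    (by decide +kernel) (by
      intro L _ _ x hx hn _ _ hd
      have h3 := tab_all (P := fun x => x.2 % oE6 != 0 || x.2 == N7 || x.2 == oE6) (by decide +kernel) hx
      simp only [Bool.or_eq_true, bne_iff_ne, beq_iff_eq] at h3
      rcases h3 with (h3 | h3) | h3
      · exact absurd (Nat.mod_eq_zero_of_dvd hd) h3
      · exact absurd h3 hn
      · exact h3)
  refine ⟨h2, ?_⟩
  have h3 := card_dvd h h1 h2 hcz (g := .e6 2) (a := 2) (by decide +kernel) (by decide)
  obtain ⟨z, hzX, ho⟩ := exists_order (X := X) (pr 73 (by decide +kernel)) (by rw [hc]; decide +kernel)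
  rw [cent_bot hz hzX (by rw [ho]; exact h.c73 z ho), card_bot, mul_one] at h3
  exact h3

/-- **Box F3.** -/
theorem boxF3 : BoxF3 := by
  intro M _ h X hs hc
  have := h.fin
  obtain ⟨hq, hcz, hz⟩ := simple_qs hs hc (by decide +kernel) (by decide +kernel)
  obtain ⟨h1, h2⟩ := frame_eq' h hq (c := oO12) (s := 7) (k := 3) (s5 := 7) (s7 := 5) hcz (by decide +kernel)
    (by decide +kernel) (by
      intro L _ _ x hx hn _ _ hd
      have h3 := tab_all (P := fun x => x.2 % oO12 != 0 || x.2 == N7 || x.2 == oO12) (by decide +kernel) hx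
      simp only [Bool.or_eq_true, bne_iff_ne, beq_iff_eq] at h3
      rcases h3 with (h3 | h3) | h3
      · exact absurd (Nat.mod_eq_zero_of_dvd hd) h3
      · exact absurd h3 hn
      · exact h3)
  exact ⟨h2, card_dvd h h1 h2 hcz (g := .oplus 6 2) (a := 2) (by decide +kernel) (by decide)⟩

/-- **Box F10.** -/
theorem boxF10 : BoxF10 := by
  intro M _ h X hs hc
  have := h.fin
  obtain ⟨hq, hcz, hz⟩ := simple_qs hs hc (by decide +kernel) (by decide +kernel)
  obtain ⟨h1, h2⟩ := frame_eq' h hq (c := oL128) (s := 43) (k := 10) (s5 := 43) (s7 := 43) hcz (by decide +kernel)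
    (by decide +kernel) (by
      intro L _ _ x hx hn _ _ hd
      have h3 := tab_all (P := fun x => x.2 % oL128 != 0 || x.2 == N7 || x.2 == oL128) (by decide +kernel) hx
      simp only [Bool.or_eq_true, bne_iff_ne, beq_iff_eq] at h3
      rcases h3 with (h3 | h3) | h3
      · exact absurd (Nat.mod_eq_zero_of_dvd hd) h3
      · exact absurd h3 hn
      · exact h3)
  have h3 := card_dvd h h1 h2 hcz (g := .psl 2 128) (a := 7) (by decide +kernel) (by decide)
  obtain ⟨z, hzX, ho⟩ := exists_order (X := X) (pr 127 (by decide +kernel)) (by rw [hc]; decide +kernel)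
  rw [cent_bot hz hzX (by rw [ho]; exact h.c127 z ho), card_bot, mul_one] at h3
  exact h3

end Cfsg.Agent.R2.H14.Fr
end

-- part: R2/H14/Fr/Elt
section
/-!
# Elements of some classical groups (helper14, for S5934, box F)
-/

set_option autoImplicit false

namespace Cfsg.Agent.R2.H14.Fr

open Matrix Cfsg Cfsg.Agent.OrdDiv Cfsg.Agent.H436 Cfsg.Agent.H186 Cfsg.Agent.H103.PGUUpper Cfsg.Agent.H72.AdjPSU
  Cfsg.Agent.ClassicalGeometry.GUBasic Cfsg.Agent.H103.UniBlock Cfsg.Agent.H127 Cfsg.Agent.H290.Wei Cfsg.Agent.R2.H27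

theorem elt_psl9 {S : Type} [Group S] (h : Real (.psl 9 2) S) : ∃ g : S, orderOf g = 511 := by
  obtain ⟨F, _, _, hF, e⟩ := h
  exact exists_congr (Cfsg.Agent.H72.AdjPSL.exists_order_of_block (F := F) (n := 9) (a := 9) (r := 511)
    (Cfsg.Agent.H72.AdjPSL.hasBlock_singer (by omega) (by rw [hF]; norm_num) (by rw [hF]; norm_num))
    (by norm_num) le_rfl (by rw [hF]; norm_num) 511 dvd_rfl) e

theorem elt_psu9 {S : Type} [Group S] (h : Real (.psu 9 2) S) : ∃ g : S, orderOf g = 86 := by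
  obtain ⟨F, _, _, hF, e⟩ := h
  refine exists_congr ?_ e
  have hc : CharP F 2 := by
    obtain ⟨p, hp⟩ := CharP.exists F
    have hpp : p.Prime := CharP.char_is_prime F p
    obtain ⟨n, -, hn⟩ := FiniteField.card F p
    have h1 : p ∣ 2 ^ 2 := by
      rw [← hF, hn]
      exact dvd_pow_self p n.pos.ne'
    have h2 := (Nat.prime_dvd_prime_iff_eq hpp Nat.prime_two).1 (hpp.dvd_of_dvd_pow h1)
    rw [← h2]
    exact hp
  have : Fact (Nat.Prime 2) := ⟨Nat.prime_two⟩
  exact exists_order_of_blocks hF (by norm_num) (hasBlock_odd hF (a := 7) (d := 43) (by decide) (by norm_num)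
    (by norm_num)) (hasBlock_char hF 2) (by norm_num) (by norm_num) (by norm_num) (by norm_num) 86 (by norm_num)

theorem elt_psu8 {S : Type} [Group S] [Finite S] (h : Real (.psu 8 2) S) : ∃ g : S, orderOf g = 129 := by
  obtain ⟨F, _, _, hF, e⟩ := h
  refine exists_congr ?_ e
  obtain ⟨x, hx⟩ := Cfsg.Agent.H360.Iso.exists_subU hF (n := 8) (by norm_num)
  have h1 : 129 ∣ orderOf x := by
    have h2 : Nat.gcd 8 (2 + 1) = 1 := by norm_num
    rw [h2, mul_one] at hx
    exact hx
  have hfin : Finite (PSU 8 F 2) := by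
    obtain ⟨e⟩ := e
    exact Finite.of_equiv _ e.toEquiv
  obtain ⟨k, hk⟩ := h1
  have hk0 : k ≠ 0 := by
    rintro rfl
    exact (orderOf_pos x).ne' (by rw [hk, mul_zero])
  refine ⟨x ^ k, ?_⟩
  rw [orderOf_pow_of_dvd hk0 ⟨129, by rw [hk, mul_comm]⟩, hk, Nat.mul_div_cancel _ (Nat.pos_of_ne_zero hk0)]

theorem elt_psp {S : Type} [Group S] {m Q N : ℕ} (h : Real (.psp m Q) S) (hm : 1 ≤ m) (hodd : Odd N)
    (hN : N ∣ Q ^ m + 1) : ∃ g : S, orderOf g = N := by
  obtain ⟨F, _, _, hF, e⟩ := h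
  subst hF
  rw [← Nat.card_eq_fintype_card] at hN
  exact exists_congr (Cfsg.Agent.H377.exists_psp_tor_minus hm hodd.pos (Or.inl ⟨hodd, hN⟩)) e

section lift

set_option linter.unusedSectionVars false

variable {M : Type} [Group M] [Finite M]

/-- elements of the central quotient lift -/
theorem lift_order {L : Subgroup M} {n : ℕ} (h : ∃ g : ↥L ⧸ Subgroup.center ↥L, orderOf g = n) :
    ∃ g ∈ L, orderOf g = n := by
  obtain ⟨g, hg⟩ := h
  obtain ⟨x, rfl⟩ := QuotientGroup.mk_surjective g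
  have h1 : n ∣ orderOf x := by
    rw [← hg]
    exact orderOf_map_dvd (QuotientGroup.mk' (Subgroup.center ↥L)) x
  obtain ⟨k, hk⟩ := h1
  have hk0 : k ≠ 0 := by
    rintro rfl
    exact (orderOf_pos x).ne' (by rw [hk, mul_zero])
  refine ⟨((x ^ k : ↥L) : M), (x ^ k).2, ?_⟩
  have hn : n ≠ 0 := by
    rintro rfl
    exact (orderOf_pos x).ne' (by rw [hk, zero_mul])
  rw [Subgroup.orderOf_coe, orderOf_pow_of_dvd hk0 ⟨n, by rw [hk, mul_comm]⟩, hk,
    Nat.mul_div_cancel _ (Nat.pos_of_ne_zero hk0)]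

/-- the centraliser of a power -/
theorem order_dvd_cent {g : M} {m p B : ℕ} (ho : orderOf g = m * p) (hm : m ≠ 0)
    (h : ∀ z : M, orderOf z = p → Nat.card (Subgroup.centralizer {z} : Subgroup M) ∣ B) : m * p ∣ B := by
  have h1 : orderOf (g ^ m) = p := by
    rw [orderOf_pow_of_dvd hm ⟨p, ho⟩, ho, Nat.mul_div_cancel_left _ (Nat.pos_of_ne_zero hm)]
  have h2 := h _ h1
  have h3 : g ∈ Subgroup.centralizer {g ^ m} := by
    rw [Subgroup.mem_centralizer_singleton_iff]
    exact (Commute.pow_self g m).symm.eq.symm ▸ rfl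
  rw [← ho]
  exact (Subgroup.orderOf_dvd_natCard _ h3).trans h2

end lift

section kill

variable {M : Type} [Group M]

theorem kill_psl9 (h : Sub7 M) {L : Subgroup M} (hr : Real (.psl 9 2) (↥L ⧸ Subgroup.center ↥L)) : False := by
  have := h.fin
  obtain ⟨g, -, hg⟩ := lift_order (elt_psl9 hr)
  exact absurd (order_dvd_cent (m := 7) (p := 73) hg (by norm_num) h.c73) (by norm_num)

theorem kill_psu9 (h : Sub7 M) {L : Subgroup M} (hr : Real (.psu 9 2) (↥L ⧸ Subgroup.center ↥L)) : False := by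
  have := h.fin
  obtain ⟨g, -, hg⟩ := lift_order (elt_psu9 hr)
  exact absurd (order_dvd_cent (m := 2) (p := 43) hg (by norm_num) h.c43) (by norm_num)

theorem kill_psp3 (h : Sub7 M) {L : Subgroup M} (hr : Real (.psp 3 8) (↥L ⧸ Subgroup.center ↥L)) : False := by
  have := h.fin
  obtain ⟨g, -, hg⟩ := lift_order (elt_psp (N := 513) hr (by norm_num) (by decide) (by norm_num))
  exact absurd (order_dvd_cent (m := 27) (p := 19) hg (by norm_num) h.c19) (by norm_num)

theorem kill_psp2 (h : Sub7 M) {L : Subgroup M} (hr : Real (.psp 2 8) (↥L ⧸ Subgroup.center ↥L)) : False := by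
  have := h.fin
  obtain ⟨g, -, hg⟩ := lift_order (elt_psp (N := 65) hr (by norm_num) (by decide) (by norm_num))
  exact h.n65 g hg

end kill

end Cfsg.Agent.R2.H14.Fr
end

-- part: R2/H14/Fr/BoxB
section
/-!
# Boxes F2, F4, F5, F12 of S5934 (helper14)
-/

set_option autoImplicit false

namespace Cfsg.Agent.R2.H14.Fr

open Cfsg Subgroup Cfsg.Agent.Schreier.Basic Cfsg.Agent.OrdDiv Cfsg.Agent.R2.H27
open scoped commutatorElement

variable {M : Type} [Group M]

theorem card_quot {X : Subgroup M} {a b : ℕ} (h : Nat.card ↥X = b * a) (hz : Nat.card ↥(center ↥X) = b)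
    (hb : 0 < b) : Nat.card (↥X ⧸ center ↥X) = a := by
  have h1 := card_eq_card_quotient_mul_card_subgroup (center ↥X)
  rw [h, hz, mul_comm] at h1
  exact (Nat.eq_of_mul_eq_mul_right hb h1).symm

theorem dvd_of_both {c a b d : ℕ} (h1 : c ∣ a) (h2 : b * c ∣ N7) (_ : 0 < b) (hd : Nat.gcd a (N7 / b) ∣ d) :
    c ∣ d := by
  refine (Nat.dvd_gcd h1 ?_).trans hd
  rw [Nat.dvd_div_iff_mul_dvd ((Dvd.intro _ rfl).trans h2)]
  exact h2

/-- **Box F2.** -/
theorem boxF2 : BoxF2 := by
  intro M _ h X hp hs hc hz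
  have := h.fin
  have hq := qs_of_perf hp hs
  have hcz : Nat.card (↥X ⧸ center ↥X) = oTE6 := card_quot hc hz (by norm_num)
  obtain ⟨h1, h2⟩ := frame_eq' h hq (c := oTE6) (s := 7) (k := 2) (s5 := 7) (s7 := 5) hcz (by decide +kernel)
    (by decide +kernel) (by
      intro L _ _ x hx hn _ _ hd
      have h3 := tab_all (P := fun x => x.2 % oTE6 != 0 || x.2 == N7 || x.2 == oTE6) (by decide +kernel) hx
      simp only [Bool.or_eq_true, bne_iff_ne, beq_iff_eq] at h3
      rcases h3 with (h3 | h3) | h3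
      · exact absurd (Nat.mod_eq_zero_of_dvd hd) h3
      · exact absurd h3 hn
      · exact h3)
  have h3 := card_dvd h h1 h2 hcz (g := .te6 2) (a := 6) (by decide +kernel) (by decide)
  obtain ⟨z, hzX, ho⟩ := exists_order (X := X) (pr 19 (by decide +kernel)) (by rw [hc]; decide +kernel)
  have h4 : Nat.card ↥(centralizer (X : Set M)) ∣ 171 :=
    (card_dvd_of_le (centralizer_le (Set.singleton_subset_iff.2 hzX))).trans (h.c19 z ho)
  have h5 : Nat.card ↥(centralizer (X : Set M)) ∣ 9 := by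
    have h6 := (card_mul_centralizer_dvd X).trans h.card
    rw [hcz] at h6
    exact dvd_of_both h4 h6 (by decide +kernel) (by decide +kernel)
  refine ⟨h2, h3.trans ?_, ?_⟩
  · rw [show 54 * oTE6 = 6 * oTE6 * 9 by ring]
    exact Nat.mul_dvd_mul_left _ h5
  · refine (card_dvd_of_le ?_).trans h5
    rw [← le_centralizer_iff]
    exact cent_chk h.toSub7 hq hcz (r := 3) (s := 7) (k := 2) (by decide +kernel)

/-- **Box F4.** -/
theorem boxF4 : BoxF4 := by
  intro M _ h X hs hc
  have := h.fin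
  obtain ⟨hq, hcz, hz⟩ := simple_qs hs hc (by decide +kernel) (by decide +kernel)
  obtain ⟨h1, h2⟩ := frame_eq' h hq (c := oL8) (s := 17) (k := 6) (s5 := 7) (s7 := 5) hcz (by decide +kernel)
    (by decide +kernel) (by
      intro L _ _ x hx hn hr _ hd
      have h3 := tab_all (P := fun x => x.2 % oL8 != 0 || x.2 == N7 || x.2 == oL8 || decide (x.1 = .psl 9 2))
        (by decide +kernel) hx
      simp only [Bool.or_eq_true, bne_iff_ne, beq_iff_eq, decide_eq_true_eq] at h3
      rcases h3 with ((h3 | h3) | h3) | h3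
      · exact absurd (Nat.mod_eq_zero_of_dvd hd) h3
      · exact absurd h3 hn
      · exact h3
      · rw [h3] at hr
        exact (kill_psl9 h.toSub7 hr).elim)
  refine ⟨h2, ?_⟩
  have h3 := card_dvd h h1 h2 hcz (g := .psl 8 2) (a := 2) (by decide +kernel) (by decide)
  obtain ⟨z, hzX, ho⟩ := exists_order (X := X) (pr 127 (by decide +kernel)) (by rw [hc]; decide +kernel)
  rw [cent_bot hz hzX (by rw [ho]; exact h.c127 z ho), card_bot, mul_one] at h3
  exact h3

/-- the centralizer of `X` from an element with a self-centralising power -/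
theorem cent_bot' [Finite M] {X : Subgroup M} (hX : center ↥X = ⊥) {z : M} (hz : z ∈ X) (m : ℕ)
    (hc : Nat.card (centralizer {z ^ m} : Subgroup M) ∣ orderOf z) : centralizer (X : Set M) = ⊥ := by
  have h1 : zpowers z ≤ centralizer {z ^ m} := by
    rw [zpowers_le, mem_centralizer_singleton_iff]
    exact (Commute.self_pow z m).eq
  have h2 : zpowers z = centralizer {z ^ m} := by
    apply eq_of_le_of_card_ge h1
    rw [Nat.card_zpowers]
    exact Nat.le_of_dvd (orderOf_pos z) hc
  have h3 : centralizer (X : Set M) ≤ X := by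
    refine (centralizer_le (Set.singleton_subset_iff.2 (X.pow_mem hz m))).trans ?_
    rw [← h2, zpowers_le]
    exact hz
  rw [eq_bot_iff]
  intro y hy
  have h4 : (⟨y, h3 hy⟩ : ↥X) ∈ center ↥X := by
    rw [mem_center_iff]
    intro w
    exact Subtype.ext (mem_centralizer_iff.1 hy w w.2)
  rw [hX, mem_bot] at h4
  exact mem_bot.2 (congrArg Subtype.val h4)

/-- the name of a component -/
theorem name_of_card (h : Ctx M) {X : Subgroup M} (hX : IsComponent X) {c : ℕ} {g : Grp}
    (hc : Nat.card (↥X ⧸ center ↥X) = c) (hg : (lst7.all fun x => x.2 != c || decide (x.1 = g)) = true) :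
    Real g (↥X ⧸ center ↥X) := by
  obtain ⟨x, hx, -, hr, hcx⟩ := comp_tab h hX
  have h1 := tab_all hg hx
  rw [Bool.or_eq_true, bne_iff_ne, decide_eq_true_eq] at h1
  rwa [h1.resolve_left fun hne => hne (hcx.symm.trans hc)] at hr

/-- **Box F5.** -/
theorem boxF5 : BoxF5 := by
  intro M _ h X hs hc
  have := h.fin
  obtain ⟨hq, hcz, hz⟩ := simple_qs hs hc (by decide +kernel) (by decide +kernel)
  obtain ⟨h1, h2⟩ := frame_eq' h hq (c := oU8) (s := 7) (k := 2) (s5 := 7) (s7 := 5) hcz (by decide +kernel)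
    (by decide +kernel) (by
      intro L _ _ x hx hn hr _ hd
      have h3 := tab_all (P := fun x => x.2 % oU8 != 0 || x.2 == N7 || x.2 == oU8 || decide (x.1 = .psu 9 2))
        (by decide +kernel) hx
      simp only [Bool.or_eq_true, bne_iff_ne, beq_iff_eq, decide_eq_true_eq] at h3
      rcases h3 with ((h3 | h3) | h3) | h3
      · exact absurd (Nat.mod_eq_zero_of_dvd hd) h3
      · exact absurd h3 hn
      · exact h3
      · rw [h3] at hr
        exact (kill_psu9 h.toSub7 hr).elim)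
  have h3 := card_dvd h h1 h2 hcz (g := .psu 8 2) (a := 2) (by decide +kernel) (by decide)
  have hr : Real (.psu 8 2) (↥X ⧸ center ↥X) := name_of_card h h1 hcz (by decide +kernel)
  obtain ⟨z, hzX, ho⟩ := lift_order (elt_psu8 hr)
  have h4 : centralizer (X : Set M) = ⊥ := by
    refine cent_bot' hz hzX 3 ?_
    rw [ho]
    refine h.c43 _ ?_
    rw [orderOf_pow_of_dvd (by norm_num) (by rw [ho]; norm_num), ho]
  refine ⟨h2, h4, ?_⟩
  rw [h4, card_bot, mul_one] at h3
  exact h3

theorem le_norm_of {X K : Subgroup M} (h : ∀ x ∈ X, ∀ k ∈ K, x * k * x⁻¹ ∈ K) : X ≤ normalizer (K : Set M) := by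
  intro x hx
  rw [mem_normalizer_iff]
  intro k
  constructor
  · exact h x hx k
  · intro hk
    have := h x⁻¹ (X.inv_mem hx) _ hk
    simpa [mul_assoc] using this

theorem sup_norm {X P K : Subgroup M} (h1 : X ≤ normalizer (P : Set M)) (h2 : X ≤ normalizer (K : Set M)) :
    X ≤ normalizer ((P ⊔ K : Subgroup M) : Set M) := by
  refine le_norm_of fun x hx k hk => ?_
  have h3 : P ⊔ K ≤ (P ⊔ K).comap (MulAut.conj x).toMonoidHom := by
    refine sup_le (fun y hy => ?_) fun y hy => ?_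
    · exact mem_sup_left ((mem_normalizer_iff.1 (h1 hx) y).1 hy)
    · exact mem_sup_right ((mem_normalizer_iff.1 (h2 hx) y).1 hy)
  exact h3 hk

theorem centralizer_le_normalizer' (K : Subgroup M) : centralizer (K : Set M) ≤ normalizer (K : Set M) := by
  refine le_norm_of fun x hx k hk => ?_
  rw [← mem_centralizer_iff.1 hx k hk]
  simpa using hk

/-- `|P ⊔ K| = |P| |P : P ∩ K|` -/
theorem card_sup [Finite M] (P K : Subgroup M) [P.Normal] : Nat.card ↥(P ⊔ K) = Nat.card ↥P * P.relIndex K := by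
  have h1 := relIndex_mul_relIndex ⊥ P (P ⊔ K) bot_le le_sup_left
  rw [relIndex_bot_left, relIndex_bot_left, relIndex_sup_left] at h1
  exact h1.symm

/-- `|P| |Y| |X|` divides `|M|` -/
theorem card_three [Finite M] {X Y P : Subgroup M} [hPn : P.Normal] (hX : IsSimpleGroup ↥X) (hY : IsSimpleGroup ↥Y)
    (hYX : Y ≤ centralizer (X : Set M)) (hYP : ¬ Y ≤ P) (hXd : ¬ Nat.card ↥X ∣ Nat.card ↥P * Nat.card ↥Y) :
    Nat.card ↥P * Nat.card ↥Y * Nat.card ↥X ∣ Nat.card M := by
  have h1 : P ⊓ Y = ⊥ := by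
    have hn : (P.subgroupOf Y).Normal := inferInstance
    rcases hn.eq_bot_or_eq_top with h | h
    · rw [subgroupOf_eq_bot, disjoint_iff] at h
      exact h
    · exact absurd (subgroupOf_eq_top.1 h) hYP
  have h2 : Nat.card ↥(P ⊔ Y) = Nat.card ↥P * Nat.card ↥Y := by
    rw [card_sup, ← inf_relIndex_right, h1, relIndex_bot_left]
  have h3 : X ≤ normalizer ((P ⊔ Y : Subgroup M) : Set M) := by
    refine sup_norm ?_ ((le_centralizer_iff.1 hYX).trans (centralizer_le_normalizer' Y))
    rw [normalizer_eq_top]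
    exact le_top
  have h4 : (P ⊔ Y).relIndex X = Nat.card ↥X := by
    have hn : ((P ⊔ Y).subgroupOf X).Normal := by
      constructor
      intro n hn' g
      exact (mem_normalizer_iff.1 (h3 g.2) n).1 hn'
    rcases hn.eq_bot_or_eq_top with h | h
    · rw [relIndex, h, index_bot]
    · exact absurd ((card_dvd_of_le (subgroupOf_eq_top.1 h)).trans (dvd_of_eq h2)) hXd
  have h5 := relIndex_mul_dvd X (P ⊔ Y) h3
  rw [h4, h2] at h5
  rwa [mul_comm]

theorem pcore_pow [Finite M] {r k c : ℕ} (hr : r.Prime) (h : Nat.card ↥(pCore r M) * c ∣ N7)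
    (hk : N7 % (r ^ (k + 1) * c) ≠ 0) : Nat.card ↥(pCore r M) ∣ r ^ k := by
  obtain ⟨j, hj⟩ := card_pcore (M := M) hr
  rw [hj] at h ⊢
  refine pow_dvd_pow r ?_
  by_contra hlt
  push Not at hlt
  exact hk (Nat.mod_eq_zero_of_dvd ((Nat.mul_dvd_mul_right (pow_dvd_pow r hlt) c).trans h))

theorem not_le_core_of_dvd [Finite M] {Y : Subgroup M} {r s : ℕ} (hr : r.Prime) (hs : s.Prime) (hrs : s ≠ r)
    (h : s ∣ Nat.card ↥Y) : ¬ Y ≤ pCore r M := by
  intro hle
  obtain ⟨j, hj⟩ := card_pcore (M := M) hr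
  have h1 := h.trans (card_dvd_of_le hle)
  rw [hj] at h1
  exact hrs ((Nat.prime_dvd_prime_iff_eq hs hr).1 (hs.dvd_of_dvd_pow h1))

theorem not_dvd_pcore_mul [Finite M] {r s c : ℕ} (hr : r.Prime) (hs : s.Prime) (hrs : s ≠ r)
    (h : c % s ≠ 0) : ¬ s ∣ Nat.card ↥(pCore r M) * c := by
  intro hd
  obtain ⟨j, hj⟩ := card_pcore (M := M) hr
  rw [hj] at hd
  rcases hs.dvd_mul.1 hd with h1 | h1
  · exact hrs ((Nat.prime_dvd_prime_iff_eq hs hr).1 (hs.dvd_of_dvd_pow h1))
  · exact h (Nat.mod_eq_zero_of_dvd h1)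

/-- the action on a small `O_r(M)` -/
theorem cent_of_card [Finite M] {X : Subgroup M} (hX : IsQuasisimple ↥X) {r s k : ℕ} (hr : r.Prime) (hs : s.Prime)
    (hsx : Nat.card (↥X ⧸ center ↥X) % s = 0) (hP : Nat.card ↥(pCore r M) ∣ r ^ k) (hrs : s ≠ r)
    (hd : ((List.range k).all fun i => (r ^ (i + 1) - 1) % s != 0) = true) :
    X ≤ centralizer (pCore r M : Set M) := by
  refine le_centralizer_of_prime hX ?_ hr hP hs (Nat.dvd_of_mod_eq_zero hsx) hrs fun i h1 h2 h3 => ?_
  · rw [normalizer_eq_top]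
    exact le_top
  · have := List.all_eq_true.1 hd (i - 1) (List.mem_range.2 (by omega))
    rw [Nat.sub_add_cancel h1, bne_iff_ne] at this
    exact this (Nat.mod_eq_zero_of_dvd h3)

/-- **Box F12.** -/
theorem boxF12 : BoxF12 := by
  intro M _ h X Y hsX hcX hsY hcY hYX hCC
  have := h.fin
  obtain ⟨hqX, hcX', hzX⟩ := simple_qs hsX hcX (by decide +kernel) (by decide +kernel)
  obtain ⟨hqY, hcY', hzY⟩ := simple_qs hsY hcY (by decide +kernel) (by decide +kernel)
  have h7 : Nat.Prime 7 := by norm_num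
  have h1 := card_three (P := pCore 3 M) hsX hsY hYX
    (not_le_core_of_dvd (s := 7) Nat.prime_three h7 (by norm_num) (by rw [hcY]; decide +kernel))
    (fun hd => by
      have h5 : Nat.Prime 5 := by norm_num
      refine not_dvd_pcore_mul (M := M) (r := 3) (s := 5) (c := Nat.card ↥Y) Nat.prime_three h5 (by norm_num)
        (by rw [hcY]; decide +kernel) (Dvd.dvd.trans ?_ hd)
      rw [hcX]
      decide +kernel)
  rw [hcX, hcY, mul_assoc] at h1
  have h2 : Nat.card ↥(pCore 3 M) ∣ 3 ^ 4 := pcore_pow Nat.prime_three (h1.trans h.card) (by decide +kernel)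
  have h3 := cent_of_card (s := 7) hqX Nat.prime_three h7 (by rw [hcX']; decide +kernel) h2 (by norm_num)
    (by decide +kernel)
  have h4 := cent_of_card (s := 7) hqY Nat.prime_three h7 (by rw [hcY']; decide +kernel) h2 (by norm_num)
    (by decide +kernel)
  rw [eq_bot_iff, ← hCC]
  exact le_inf (le_centralizer_iff.1 h3) (le_centralizer_iff.1 h4)

end Cfsg.Agent.R2.H14.Fr
end

-- part: R2/H14/Fr/Emb
section
/-!
# Commuting simple subgroups acting on a component (helper14, for S5934, box F)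
-/

set_option autoImplicit false

namespace Cfsg.Agent.R2.H14.Fr

open Cfsg Subgroup Cfsg.Agent.Schreier.Basic Cfsg.Agent.OrdDiv Cfsg.Agent.R2.H27
open scoped commutatorElement

variable {M : Type} [Group M]

theorem relIndex_dvd_comp [Finite M] {X L : Subgroup M} (h1 : X ≤ L ⊔ centralizer (L : Set M)) :
    (centralizer (L : Set M)).relIndex X ∣ Nat.card (↥L ⧸ center ↥L) := by
  set C := centralizer (L : Set M) with hC
  have hLN : L ≤ normalizer (C : Set M) := le_normalizer_centralizer le_normalizer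
  have hD : L ⊔ C ≤ normalizer (C : Set M) := sup_le hLN le_normalizer
  have h5 : Nat.card (↥L ⧸ center ↥L) = C.relIndex L := by
    rw [center_eq]
    rfl
  rw [h5]
  have hn : (C.subgroupOf (L ⊔ C)).Normal := by
    rw [normal_subgroupOf_iff_le_normalizer le_sup_right]
    exact hD
  have h6 : (C.subgroupOf (L ⊔ C)).relIndex (X.subgroupOf (L ⊔ C)) ∣ (C.subgroupOf (L ⊔ C)).index :=
    relIndex_dvd_index_of_normal _ _
  have h7 : (C.subgroupOf (L ⊔ C)).index = C.relIndex L := by
    have h8 : (C.subgroupOf (L ⊔ C)).relIndex (L.subgroupOf (L ⊔ C)) = C.relIndex L := relIndex_subgroupOf le_sup_left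
    have h9 : C.subgroupOf (L ⊔ C) ⊔ L.subgroupOf (L ⊔ C) = ⊤ := by
      apply Subgroup.map_injective (L ⊔ C).subtype_injective
      rw [Subgroup.map_sup, subgroupOf_map_subtype, subgroupOf_map_subtype, ← MonoidHom.range_eq_map,
        Subgroup.range_subtype, inf_eq_left.2 le_sup_right, inf_eq_left.2 le_sup_left, sup_comm]
    have h10 := relIndex_sup_left (L.subgroupOf (L ⊔ C)) (C.subgroupOf (L ⊔ C))
    rw [h9, relIndex_top_right] at h10
    rw [← h8, h10]
  rw [relIndex_subgroupOf h1, h7] at h6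
  exact h6

theorem mem_sup_cent {L : Subgroup M} {g : M} (h : g ∈ L ⊔ centralizer (L : Set M)) :
    ∃ l ∈ L, ∃ c ∈ centralizer (L : Set M), l * c = g := by
  let K : Subgroup M :=
    { carrier := {g | ∃ l ∈ L, ∃ c ∈ centralizer (L : Set M), l * c = g}
      one_mem' := ⟨1, L.one_mem, 1, one_mem _, mul_one 1⟩
      mul_mem' := by
        rintro _ _ ⟨l, hl, c, hc, rfl⟩ ⟨l', hl', c', hc', rfl⟩
        refine ⟨l * l', L.mul_mem hl hl', c * c', mul_mem hc hc', ?_⟩
        have h1 : l' * c = c * l' := mem_centralizer_iff.1 hc l' hl'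
        calc l * l' * (c * c') = l * (l' * c) * c' := by group
          _ = l * (c * l') * c' := by rw [h1]
          _ = _ := by group
      inv_mem' := by
        rintro _ ⟨l, hl, c, hc, rfl⟩
        refine ⟨l⁻¹, L.inv_mem hl, c⁻¹, inv_mem hc, ?_⟩
        have h1 : l⁻¹ * c⁻¹ = c⁻¹ * l⁻¹ := mem_centralizer_iff.1 (inv_mem hc) l⁻¹ (L.inv_mem hl)
        rw [mul_inv_rev, h1] }
  have hK : L ⊔ centralizer (L : Set M) ≤ K :=
    sup_le (fun l hl => ⟨l, hl, 1, one_mem _, mul_one l⟩) fun c hc => ⟨1, L.one_mem, c, hc, one_mul c⟩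
  exact hK h

/-- the image in the central quotient of the component -/
theorem exists_image {D L : Subgroup M} (h1 : D ≤ L ⊔ centralizer (L : Set M))
    (h2 : D ⊓ centralizer (L : Set M) = ⊥) {g : M} (hg : g ∈ D) :
    ∃ y : ↥L ⧸ center ↥L, orderOf y = orderOf g := by
  obtain ⟨l, hl, c, hc, rfl⟩ := mem_sup_cent (h1 hg)
  refine ⟨QuotientGroup.mk ⟨l, hl⟩, ?_⟩
  have hcomm : Commute l c := (mem_centralizer_iff.1 hc l hl)
  apply orderOf_eq_orderOf_iff.2
  intro n
  rw [← QuotientGroup.mk_pow, QuotientGroup.eq_one_iff, hcomm.mul_pow]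
  constructor
  · intro h
    have h3 : l ^ n ∈ centralizer (L : Set M) := by
      rw [mem_centralizer_iff]
      intro y hy
      exact congrArg Subtype.val (mem_center_iff.1 h ⟨y, hy⟩)
    have h4 : l ^ n * c ^ n ∈ D ⊓ centralizer (L : Set M) := by
      refine ⟨?_, mul_mem h3 (pow_mem hc n)⟩
      rw [← hcomm.mul_pow]
      exact pow_mem hg n
    rw [h2] at h4
    exact mem_bot.1 h4
  · intro h
    have h3 : l ^ n = (c ^ n)⁻¹ := mul_eq_one_iff_eq_inv.1 h
    have h4 : l ^ n ∈ centralizer (L : Set M) := by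
      rw [h3]
      exact inv_mem (pow_mem hc n)
    rw [mem_center_iff]
    intro y
    exact Subtype.ext (mem_centralizer_iff.1 h4 y y.2)

theorem simple_inf {X K : Subgroup M} (hX : IsSimpleGroup ↥X) (hn : X ≤ normalizer (K : Set M)) (h : ¬ X ≤ K) :
    X ⊓ K = ⊥ := by
  have hk : (K.subgroupOf X).Normal := by
    constructor
    intro n hn' g
    exact (mem_normalizer_iff.1 (hn g.2) n).1 hn'
  rcases hk.eq_bot_or_eq_top with h1 | h1
  · rw [subgroupOf_eq_bot, disjoint_iff, inf_comm] at h1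
    exact h1
  · exact absurd (subgroupOf_eq_top.1 h1) h

/-- `(X ⊔ Y) ⊓ K = ⊥` -/
theorem inf_bot {X Y K : Subgroup M} (hX : IsSimpleGroup ↥X) (hY : IsSimpleGroup ↥Y)
    (hYX : Y ≤ centralizer (X : Set M)) (hCC : centralizer (X : Set M) ⊓ centralizer (Y : Set M) = ⊥)
    (hXN : X ≤ normalizer (K : Set M)) (hYN : Y ≤ normalizer (K : Set M)) (hXK : ¬ X ≤ K) (hYK : ¬ Y ≤ K) :
    (X ⊔ Y) ⊓ K = ⊥ := by
  have hXY : X ≤ centralizer (Y : Set M) := le_centralizer_iff.1 hYX
  have key : ∀ {Z : Subgroup M}, X ⊔ Y ≤ normalizer (Z : Set M) → Z ≤ normalizer (K : Set M) → Z ⊓ K = ⊥ →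
      (X ⊔ Y) ⊓ K ≤ centralizer (Z : Set M) := by
    intro Z h1 h2 h3 b hb
    rw [mem_centralizer_iff]
    intro z hz
    have h4 : z * b * z⁻¹ * b⁻¹ ∈ Z ⊓ K := by
      constructor
      · have h5 := (mem_normalizer_iff.1 (h1 hb.1) z⁻¹).1 (Z.inv_mem hz)
        have h6 := Z.mul_mem hz h5
        have h7 : z * (b * z⁻¹ * b⁻¹) = z * b * z⁻¹ * b⁻¹ := by group
        rwa [h7] at h6
      · exact K.mul_mem ((mem_normalizer_iff.1 (h2 hz) b).1 hb.2) (K.inv_mem hb.2)
    rw [h3, mem_bot] at h4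
    exact (mul_inv_eq_iff_eq_mul.1 (mul_inv_eq_one.1 h4))
  rw [eq_bot_iff, ← hCC]
  refine le_inf (key (sup_le le_normalizer (hYX.trans (centralizer_le_normalizer' X))) hXN (simple_inf hX hXN hXK))
    (key (sup_le (hXY.trans (centralizer_le_normalizer' Y)) le_normalizer) hYN (simple_inf hY hYN hYK))

/-- the order of `X ⊔ Y` -/
theorem card_sup_comm [Finite M] {X Y : Subgroup M} (hX : IsSimpleGroup ↥X) (hYX : Y ≤ centralizer (X : Set M))
    (hXY : ¬ X ≤ Y) : Nat.card ↥(X ⊔ Y) = Nat.card ↥X * Nat.card ↥Y := by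
  have h1 : X ≤ normalizer (Y : Set M) := (le_centralizer_iff.1 hYX).trans (centralizer_le_normalizer' Y)
  have h2 := simple_inf hX h1 hXY
  have hn : (X.subgroupOf (X ⊔ Y)).Normal := by
    rw [normal_subgroupOf_iff_le_normalizer le_sup_left]
    exact sup_le le_normalizer (hYX.trans (centralizer_le_normalizer' X))
  have h3 := card_sup (M := ↥(X ⊔ Y)) (X.subgroupOf (X ⊔ Y)) (Y.subgroupOf (X ⊔ Y))
  have h4 : X.subgroupOf (X ⊔ Y) ⊔ Y.subgroupOf (X ⊔ Y) = ⊤ := by
    apply Subgroup.map_injective (X ⊔ Y).subtype_injective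
    rw [Subgroup.map_sup, subgroupOf_map_subtype, subgroupOf_map_subtype, ← MonoidHom.range_eq_map,
      Subgroup.range_subtype, inf_eq_left.2 le_sup_left, inf_eq_left.2 le_sup_right]
  rw [h4, card_top, relIndex_subgroupOf le_sup_right, Nat.card_congr (subgroupOfEquivOfLe le_sup_left).toEquiv,
    ← inf_relIndex_right, h2, relIndex_bot_left] at h3
  exact h3

/-- `X`, `Y` act nontrivially on the component `L` -/
theorem both_act [Finite M] {X Y L : Subgroup M} (hX : IsSimpleGroup ↥X) (hY : IsSimpleGroup ↥Y)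
    (hYX : Y ≤ centralizer (X : Set M)) (hCC : centralizer (X : Set M) ⊓ centralizer (Y : Set M) = ⊥)
    (hXY : ¬ X ≤ Y) (hXL : X ≤ L ⊔ centralizer (L : Set M)) (hYL : Y ≤ L ⊔ centralizer (L : Set M))
    (hXK : ¬ X ≤ centralizer (L : Set M)) (hYK : ¬ Y ≤ centralizer (L : Set M)) :
    Nat.card ↥X * Nat.card ↥Y ∣ Nat.card (↥L ⧸ center ↥L) ∧
      ∀ g ∈ X ⊔ Y, ∃ y : ↥L ⧸ center ↥L, orderOf y = orderOf g := by
  have hD : L ⊔ centralizer (L : Set M) ≤ normalizer (centralizer (L : Set M) : Set M) :=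
    sup_le (le_normalizer_centralizer le_normalizer) le_normalizer
  have h1 := inf_bot hX hY hYX hCC (hXL.trans hD) (hYL.trans hD) hXK hYK
  refine ⟨?_, fun g hg => exists_image (sup_le hXL hYL) h1 hg⟩
  rw [← card_sup_comm hX hYX hXY]
  have h2 := relIndex_dvd_comp (sup_le hXL hYL)
  rwa [← inf_relIndex_right, inf_comm, h1, relIndex_bot_left] at h2

/-- `O_r(M)` is trivial if `C(X)` has order prime to `r` -/
theorem pcore_bot [Finite M] {K : Subgroup M} {r : ℕ} (hr : r.Prime) (h : pCore r M ≤ K) (hd : ¬ r ∣ Nat.card ↥K) :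
    pCore r M = ⊥ := by
  obtain ⟨j, hj⟩ := card_pcore (M := M) hr
  have h1 := card_dvd_of_le h
  rcases Nat.eq_zero_or_pos j with h2 | h2
  · rw [h2, pow_zero] at hj
    exact card_eq_one.1 hj
  · exact absurd (((dvd_pow_self r h2.ne').trans (dvd_of_eq hj.symm)).trans h1) hd

/-- no normal solvable subgroups -/
theorem solv_bot [Finite M] (h : ∀ r : ℕ, r.Prime → pCore r M = ⊥) {K : Subgroup M} (hK : K.Normal)
    (hs : Group.IsSolvable ↥K) : K = ⊥ := by
  have hF : fittingSubgroup M = ⊥ := by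
    rw [Lib.Cores.fittingSubgroup_eq_iSup_pCore, eq_bot_iff]
    exact iSup_le fun p => (h p p.2).le
  have key : ∀ n : ℕ, derivedSeries ↥K n = ⊥ → derivedSeries ↥K 0 = ⊥ := by
    intro n
    induction n with
    | zero => exact id
    | succ n ih =>
      intro hn
      refine ih ?_
      have h1 : ((derivedSeries ↥K n).map K.subtype).Normal := inferInstance
      have h2 : ⁅derivedSeries ↥K n, derivedSeries ↥K n⁆ = ⊥ := hn
      have h3 : ⁅(derivedSeries ↥K n).map K.subtype, (derivedSeries ↥K n).map K.subtype⁆ = ⊥ := by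
        rw [← Subgroup.map_commutator, h2, Subgroup.map_bot]
      have h4 : Group.IsNilpotent ↥((derivedSeries ↥K n).map K.subtype) := by
        have h5 := commutator_eq_bot_iff_le_centralizer.1 h3
        have h6 : IsMulCommutative ↥((derivedSeries ↥K n).map K.subtype) :=
          ⟨⟨fun a b => Subtype.ext (mem_centralizer_iff.1 (h5 b.2) a a.2)⟩⟩
        let _ : CommGroup ↥((derivedSeries ↥K n).map K.subtype) :=
          { (inferInstance : Group ↥((derivedSeries ↥K n).map K.subtype)) with mul_comm := h6.is_comm.comm }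
        infer_instance
      have h5 : (derivedSeries ↥K n).map K.subtype ≤ fittingSubgroup M := le_sSup ⟨h1, h4⟩
      rw [hF, le_bot_iff, Subgroup.map_eq_bot_iff_of_injective _ K.subtype_injective] at h5
      exact h5
  obtain ⟨n, hn⟩ := hs.solvable
  have h1 : (⊤ : Subgroup ↥K) = ⊥ := key n hn
  have h2 := congrArg (Subgroup.map K.subtype) h1
  rwa [← MonoidHom.range_eq_map, Subgroup.range_subtype, Subgroup.map_bot] at h2

/-- groups of order `2 ^ a 3 ^ b` are solvable -/
theorem solv_of_card [Finite M] {K : Subgroup M} {a b : ℕ} (h : Nat.card ↥K ∣ 2 ^ a * 3 ^ b) :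
    Group.IsSolvable ↥K := by
  obtain ⟨x, y, hx, hy, hxy⟩ := Nat.dvd_mul.1 h
  obtain ⟨i, -, rfl⟩ := (Nat.dvd_prime_pow Nat.prime_two).1 hx
  obtain ⟨j, -, rfl⟩ := (Nat.dvd_prime_pow Nat.prime_three).1 hy
  exact Cfsg.Agent.S0144.result 2 3 i j Nat.prime_two Nat.prime_three hxy.symm

end Cfsg.Agent.R2.H14.Fr
end

-- part: R2/H14/Fr/BoxC
section
/-!
# Boxes F6, F7 of S5934 (helper14)
-/

set_option autoImplicit false

namespace Cfsg.Agent.R2.H14.Fr

open Cfsg Subgroup Cfsg.Agent.Schreier.Basic Cfsg.Agent.OrdDiv Cfsg.Agent.R2.H27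
open scoped commutatorElement

variable {M : Type} [Group M]

/-- `E₆(2)` has no elements of order 117, 217 -/
def X2 : Prop := ∀ (S : Type) [Group S], Real (.e6 2) S → ∀ x : S, orderOf x ≠ 117 ∧ orderOf x ≠ 217

theorem order_mul {x y : M} {a b : ℕ} (h : Commute x y) (hx : orderOf x = a) (hy : orderOf y = b)
    (hab : Nat.gcd a b = 1) : orderOf (x * y) = a * b := by
  rw [h.orderOf_mul_eq_mul_orderOf_of_coprime (by rw [hx, hy]; exact hab), hx, hy]

/-- **Box F6.** -/
theorem boxF6 (hX2 : X2) : BoxF6 := by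
  intro M _ h X Y hsX hcX hsY hcY hCX hCY
  have := h.fin
  obtain ⟨hq, hcz, hz⟩ := simple_qs hsX hcX (by decide +kernel) (by decide +kernel)
  obtain ⟨hqY, hczY, hzY⟩ := simple_qs hsY hcY (by decide +kernel) (by decide +kernel)
  have hYX : Y ≤ centralizer (X : Set M) := hCX.ge
  have hCC : centralizer (X : Set M) ⊓ centralizer (Y : Set M) = ⊥ := by
    rw [hCX, hCY, inf_comm]
    refine simple_inf hsX ?_ ?_
    · exact (le_centralizer_iff.1 hYX).trans (centralizer_le_normalizer' Y)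
    · intro hle
      have := card_dvd_of_le hle
      rw [hcX, hcY] at this
      exact absurd this (by decide +kernel)
  have hXY : ¬ X ≤ Y := fun hle => by
    have := card_dvd_of_le hle
    rw [hcX, hcY] at this
    exact absurd this (by decide +kernel)
  have hk : chk oL6 31 7 7 5 = true := by decide +kernel
  unfold chk at hk
  simp only [Bool.and_eq_true] at hk
  obtain ⟨L, hL, hXL, hXK, hXN, x, hx, hn, hr, hc, hd⟩ := frame7 h hq (cent_chk h.toSub7 hq hcz hk.1.1)
    (cent_chk h.toSub7 hq hcz hk.1.2) (cent_chk h.toSub7 hq hcz hk.2)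
  rw [hcz] at hd
  have h1 : X ≤ L := le_of_norm hq hXN fun h2 => by
    have h3 : oL6 * oL6 ∣ N7 := by
      rw [hcz, hc] at h2
      exact (Nat.mul_dvd_mul_left _ hd).trans (h2.trans h.card)
    exact absurd h3 (by decide +kernel)
  have hYL := le_sup_centralizer (perf_of_qs hqY) hL.2 (le_normalizer_comp (perf_of_qs hqY) hL (comp_pow4 h hL))
  by_cases hYK : Y ≤ centralizer (L : Set M)
  · have h2 : L ≤ X := by
      rw [← hCY]
      exact le_centralizer_iff.1 hYK
    have h3 : X = L := le_antisymm h1 h2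
    subst h3
    have h4 : X.Normal := comp_normal hL fun h5 => by
      rw [hcz] at h5
      exact absurd (h5.trans h.card) (by decide +kernel)
    have h5 := card_dvd h hL h4 hcz (g := .psl 6 2) (a := 2) (by decide +kernel) (by decide)
    rw [hCX, hcY] at h5
    refine h5.trans ?_
    rw [show 4 * oL6 * oL3 = 2 * oL6 * oL3 * 2 by ring]
    exact Dvd.intro _ rfl
  · obtain ⟨h2, h3⟩ := both_act hsX hsY hYX hCC hXY hXL hYL hXK hYK
    rw [hcX, hcY, hc] at h2
    have h4 := tab_all (P := fun x => x.2 % (oL6 * oL3) != 0 || x.2 == N7 || decide (x.1 = .psl 9 2) ||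
      decide (x.1 = .e6 2)) (by decide +kernel) hx
    simp only [Bool.or_eq_true, bne_iff_ne, beq_iff_eq, decide_eq_true_eq] at h4
    rcases h4 with ((h4 | h4) | h4) | h4
    · exact absurd (Nat.mod_eq_zero_of_dvd h2) h4
    · exact absurd h4 hn
    · rw [h4] at hr
      exact (kill_psl9 h.toSub7 hr).elim
    · rw [h4] at hr
      exfalso
      obtain ⟨a, ha, hao⟩ := exists_order (X := X) (pr 31 (by decide +kernel)) (by rw [hcX]; decide +kernel)
      obtain ⟨b, hb, hbo⟩ := exists_order (X := Y) (pr 7 (by decide +kernel)) (by rw [hcY]; decide +kernel)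
      have hab : Commute a b := mem_centralizer_iff.1 (hYX hb) a ha
      obtain ⟨y, hy⟩ := h3 (a * b) (mul_mem (mem_sup_left ha) (mem_sup_right hb))
      rw [order_mul hab hao hbo (by norm_num)] at hy
      exact (hX2 _ hr y).2 hy

theorem pcore_bot_of (h : Ctx M) {K : Subgroup M} {a b : ℕ} (hK : Nat.card ↥K ∣ 2 ^ a * 3 ^ b)
    (h3 : pCore 3 M = ⊥) (hr : ∀ r : ℕ, r.Prime → pCore r M ≤ K) (r : ℕ) (hp : r.Prime) : pCore r M = ⊥ := by
  have := h.fin
  by_cases e2 : r = 2
  · exact e2 ▸ h.core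
  by_cases e3 : r = 3
  · exact e3 ▸ h3
  refine pcore_bot hp (hr r hp) fun hd => ?_
  rcases hp.dvd_mul.1 (hd.trans hK) with h1 | h1
  · exact e2 ((Nat.prime_dvd_prime_iff_eq hp Nat.prime_two).1 (hp.dvd_of_dvd_pow h1))
  · exact e3 ((Nat.prime_dvd_prime_iff_eq hp Nat.prime_three).1 (hp.dvd_of_dvd_pow h1))

/-- the common part of F7, F8: `C(X)` a `{2,3}`-group, `O_3(M) = 1` -/
theorem almost_simple (h : Ctx M) {X : Subgroup M} (hq : IsQuasisimple ↥X) {c a b : ℕ}
    (hcz : Nat.card (↥X ⧸ center ↥X) = c) (h3c : X ≤ centralizer (pCore 3 M : Set M))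
    (h5c : X ≤ centralizer (pCore 5 M : Set M)) (h7c : X ≤ centralizer (pCore 7 M : Set M))
    (hc2 : N7 % (c * c) ≠ 0) (hC : Nat.card ↥(centralizer (X : Set M)) ∣ 2 ^ a * 3 ^ b) (h3 : pCore 3 M = ⊥) :
    ∃ L : Subgroup M, IsComponent L ∧ L.Normal ∧ X ≤ L ∧ centralizer (L : Set M) = ⊥ ∧ ∃ x ∈ tab7, x.2 ≠ N7 ∧
      Real x.1 (↥L ⧸ center ↥L) ∧ Nat.card (↥L ⧸ center ↥L) = x.2 ∧ c ∣ x.2 := by
  have := h.fin
  obtain ⟨L, hL, hXL, hXK, hXN, x, hx, hn, hr, hc, hd⟩ := frame7 h hq h3c h5c h7c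
  rw [hcz] at hd
  have h1 : X ≤ L := le_of_norm hq hXN fun h2 => by
    rw [hcz, hc] at h2
    exact hc2 (Nat.mod_eq_zero_of_dvd ((Nat.mul_dvd_mul_left _ hd).trans (h2.trans h.card)))
  have hLn : L.Normal := comp_normal hL fun h2 => by
    rw [hc, pow_two] at h2
    exact hc2 (Nat.mod_eq_zero_of_dvd ((Nat.mul_dvd_mul hd hd).trans (h2.trans h.card)))
  have hall := cent_all h (perf_of_qs hq) h3c h5c h7c
  have hbot := pcore_bot_of h hC h3 fun r hr => le_centralizer_iff.1 (hall r hr)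
  have h4 : (centralizer (L : Set M)).Normal := inferInstance
  have h5 := solv_bot hbot h4 (solv_of_card ((card_dvd_of_le (centralizer_le h1)).trans hC))
  exact ⟨L, hL, hLn, h1, h5, x, hx, hn, hr, hc, hd⟩

/-- the centre of a component with trivial centralizer -/
theorem simple_of_cent {L : Subgroup M} (hL : IsComponent L) (h : centralizer (L : Set M) = ⊥) :
    IsSimpleGroup ↥L ∧ Nat.card (↥L ⧸ center ↥L) = Nat.card ↥L := by
  have hz : center ↥L = ⊥ := by
    rw [center_eq, h, bot_subgroupOf]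
  have e : ↥L ⧸ center ↥L ≃* ↥L := (QuotientGroup.quotientMulEquivOfEq hz).trans QuotientGroup.quotientBot
  have := hL.2.2
  exact ⟨(MulEquiv.isSimpleGroup_congr e).1 inferInstance, Nat.card_congr e.toEquiv⟩

theorem aut_bound (h : Ctx M) {L : Subgroup M} (hL : IsComponent L) [hn : L.Normal]
    (hC : centralizer (L : Set M) = ⊥) {y : Grp × ℕ} {a : ℕ} (hr : Real y.1 (↥L ⧸ center ↥L))
    (hc : Nat.card (↥L ⧸ center ↥L) = y.2) (ha : (y.1, a) ∈ autTab) : Nat.card M ∣ a * y.2 := by
  have := h.fin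
  have := hL.2.2
  have h1 := card_dvd_aut hL.2
  rw [hC, card_bot, mul_one, aut_row (Schreier.KBalance.not_isMulCommutative_quotient hL.2) ha hr, hc] at h1
  exact h1

/-- **Box F7.** -/
theorem boxF7 : BoxF7 := by
  intro M _ h X hp hs hc hz hC h310
  have := h.fin
  have hq := qs_of_perf hp hs
  have hcz : Nat.card (↥X ⧸ center ↥X) = oU6 := card_quot hc hz (by norm_num)
  have hk : chk oU6 7 5 7 5 = true := by decide +kernel
  unfold chk at hk
  simp only [Bool.and_eq_true] at hk
  have h3c := cent_chk h.toSub7 hq hcz hk.1.1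
  have hle := le_centralizer_iff.1 h3c
  refine ⟨fun h3 => ?_, ?_, hle⟩
  · obtain ⟨L, hL, hLn, hXL, hCL, x, hx, hn, hr, hcx, hd⟩ := almost_simple h hq hcz h3c
      (cent_chk h.toSub7 hq hcz hk.1.2) (cent_chk h.toSub7 hq hcz hk.2) (by decide +kernel) hC h3
    have h4 := tab_all (P := fun x => x.2 % oU6 != 0 || x.2 == N7 || decide (x.1 = .psu 9 2) || decide (x.1 = .te6 2) ||
      (autTab.any fun y => decide (y.1 = x.1) && (y.2 * x.2) % 3 ^ 10 != 0)) (by decide +kernel) hx
    simp only [Bool.or_eq_true, bne_iff_ne, beq_iff_eq, decide_eq_true_eq, List.any_eq_true, Bool.and_eq_true] at h4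
    rcases h4 with (((h4 | h4) | h4) | h4) | ⟨y, hy, hyx, hy3⟩
    · exact h4 (Nat.mod_eq_zero_of_dvd hd)
    · exact hn h4
    · rw [h4] at hr
      exact kill_psu9 h.toSub7 hr
    · obtain ⟨h5, h6⟩ := simple_of_cent hL hCL
      have h7 := tab_all (P := fun x => decide (x.1 ≠ .te6 2) || x.2 == oTE6) (by decide +kernel) hx
      simp only [Bool.or_eq_true, beq_iff_eq, decide_eq_true_eq] at h7
      exact h.notTE6 L h5 (by rw [← h6, hcx]; exact h7.resolve_left fun h8 => h8 h4)
    · refine hy3 (Nat.mod_eq_zero_of_dvd (h310.trans ?_))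
      have hy' : (x.1, y.2) ∈ autTab := by
        rw [← hyx]
        exact hy
      exact aut_bound h hL hCL hr hcx hy'
  · obtain ⟨j, hj⟩ := card_pcore (M := M) Nat.prime_three
    have h4 := (card_dvd_of_le hle).trans hC
    rw [hj] at h4 ⊢
    refine pow_dvd_pow 3 ?_
    by_contra hlt
    push Not at hlt
    have h5 := (pow_dvd_pow 3 hlt).trans h4
    exact absurd h5 (by decide +kernel)

end Cfsg.Agent.R2.H14.Fr
end

-- part: R2/H14/Fr/BoxD
section
/-!
# Box F8 of S5934 (helper14)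
-/

set_option autoImplicit false

namespace Cfsg.Agent.R2.H14.Fr

open Cfsg Subgroup Cfsg.Agent.Schreier.Basic Cfsg.Agent.OrdDiv Cfsg.Agent.R2.H27
open scoped commutatorElement

variable {M : Type} [Group M]

/-- the conjugation action of a subgroup on a subgroup which it normalises -/
@[reducible] def conjAct {R P : Subgroup M} (hn : R ≤ normalizer (P : Set M)) : MulAction ↥R ↥P :=
    { smul := fun g y => ⟨g * y * (g : M)⁻¹, ((mem_normalizer_iff.1 (hn g.2)) y).1 y.2⟩
      one_smul := fun y => Subtype.ext (by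
        show ((1 : ↥R) : M) * y * ((1 : ↥R) : M)⁻¹ = y
        simp)
      mul_smul := fun g h y => Subtype.ext (by
        show ((g * h : ↥R) : M) * y * ((g * h : ↥R) : M)⁻¹ = g * (h * y * (h : M)⁻¹) * (g : M)⁻¹
        rw [coe_mul]
        group) }

/-- the number of fixed points of an element of order `s ^ a` on an `r`-group -/
theorem card_fix [Finite M] {P : Subgroup M} {x : M} {r s n a : ℕ} (hr : r.Prime) (hs : s.Prime)
    (hx : x ∈ normalizer (P : Set M)) (ho : orderOf x = s ^ a) (hP : Nat.card ↥P = r ^ n) :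
    ∃ j ≤ n, Nat.card ↥((centralizer {x}).subgroupOf P) = r ^ j ∧ r ^ n ≡ r ^ j [MOD s] := by
  have : Fact s.Prime := ⟨hs⟩
  have hx' : zpowers x ≤ normalizer (P : Set M) := by rwa [zpowers_le]
  let _ := conjAct hx'
  have hsm : ∀ (g : ↥(zpowers x)) (y : ↥P), ((g • y : ↥P) : M) = g * y * (g : M)⁻¹ := fun _ _ => rfl
  have hpg : IsPGroup s ↥(zpowers x) := IsPGroup.of_card (by rw [Nat.card_zpowers, ho])
  have h1 := hpg.card_modEq_card_fixedPoints ↥P
  let Q : Subgroup ↥P := (centralizer {x}).subgroupOf P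
  have h2 : MulAction.fixedPoints ↥(zpowers x) ↥P = (Q : Set ↥P) := by
    ext y
    rw [MulAction.mem_fixedPoints, SetLike.mem_coe, mem_subgroupOf, mem_centralizer_singleton_iff]
    constructor
    · intro h
      have := congrArg Subtype.val (h ⟨x, mem_zpowers x⟩)
      rw [hsm] at this
      exact (mul_inv_eq_iff_eq_mul.1 this).symm
    · rintro h ⟨g, hg⟩
      obtain ⟨n, rfl⟩ := mem_zpowers_iff.1 hg
      apply Subtype.ext
      rw [hsm]
      have hc : Commute x (y : M) := h.symm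
      exact mul_inv_eq_iff_eq_mul.2 (hc.zpow_left n).eq
  rw [h2] at h1
  have h3 : Nat.card ↥Q ∣ Nat.card ↥P := card_subgroup_dvd_card Q
  obtain ⟨j, hjn, hj⟩ := (Nat.dvd_prime_pow hr).1 (hP ▸ h3)
  refine ⟨j, hjn, hj, ?_⟩
  have h4 : Nat.card ((Q : Set ↥P)) = r ^ j := hj
  rwa [h4, hP] at h1

/-- groups of order divisible by 25 on groups of order `3 ^ 6` -/
theorem cent_36 [Finite M] {X P : Subgroup M} (hX : IsQuasisimple ↥X) (hz : center ↥X = ⊥)
    (hn : X ≤ normalizer (P : Set M)) (h25 : 25 ∣ Nat.card ↥X) (hP : Nat.card ↥P = 3 ^ 6) :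
    X ≤ centralizer (P : Set M) := by
  classical
  by_contra hcon
  have hc := (le_or_center hX (le_normalizer_centralizer hn)).resolve_left hcon
  rw [hz, le_bot_iff, subgroupOf_eq_bot, disjoint_iff] at hc
  have : Fact (Nat.Prime 5) := ⟨by norm_num⟩
  obtain ⟨R', hR'⟩ := Sylow.exists_subgroup_card_pow_prime (G := ↥X) 5 (n := 2) h25
  set R := R'.map X.subtype with hR
  have hRX : R ≤ X := by
    rintro _ ⟨y, -, rfl⟩
    exact y.2
  have hRc : Nat.card ↥R = 25 := by
    rw [hR, ← Nat.card_congr (R'.equivMapOfInjective _ X.subtype_injective).toEquiv, hR']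
    norm_num
  have hRn := hRX.trans hn
  let _ := conjAct hRn
  have hsm : ∀ (g : ↥R) (y : ↥P), ((g • y : ↥P) : M) = g * y * (g : M)⁻¹ := fun _ _ => rfl
  have : Fintype ↥R := Fintype.ofFinite _
  have : Fintype ↥P := Fintype.ofFinite _
  have hB := MulAction.sum_card_fixedBy_eq_card_orbits_mul_card_group ↥R ↥P
  have h1 : ∀ g : ↥R, g ≠ 1 → Fintype.card (MulAction.fixedBy ↥P g) = 9 := by
    intro g hg
    have hg1 : (g : M) ≠ 1 := fun h => hg (Subtype.ext h)
    have ho : ∃ a, orderOf (g : M) = 5 ^ a := by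
      have h2 : orderOf (g : M) ∣ 5 ^ 2 := by
        have := orderOf_dvd_natCard R g.2
        rw [hRc] at this
        exact this
      obtain ⟨a, -, ha⟩ := (Nat.dvd_prime_pow (by norm_num : Nat.Prime 5)).1 h2
      exact ⟨a, ha⟩
    obtain ⟨a, ha⟩ := ho
    obtain ⟨j, hj, h2, h3⟩ := card_fix Nat.prime_three (by norm_num : Nat.Prime 5) (hRn g.2) ha hP
    have h4 : MulAction.fixedBy ↥P g = (((centralizer {(g : M)}).subgroupOf P : Subgroup ↥P) : Set ↥P) := by
      ext y
      rw [MulAction.mem_fixedBy, SetLike.mem_coe, mem_subgroupOf, mem_centralizer_singleton_iff]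
      constructor
      · intro h
        have := congrArg Subtype.val h
        rw [hsm] at this
        exact (mul_inv_eq_iff_eq_mul.1 this).symm
      · intro h
        apply Subtype.ext
        rw [hsm]
        exact mul_inv_eq_iff_eq_mul.2 h.symm
    have h5 : Fintype.card (MulAction.fixedBy ↥P g) = 3 ^ j := by
      rw [← Nat.card_eq_fintype_card, h4]
      exact h2
    have h6 : j ≠ 6 := by
      rintro rfl
      have h7 : (centralizer {(g : M)}).subgroupOf P = ⊤ := by
        apply eq_top_of_card_eq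
        rw [h2, hP]
      rw [subgroupOf_eq_top] at h7
      have h8 : (g : M) ∈ centralizer (P : Set M) := by
        rw [mem_centralizer_iff]
        intro y hy
        exact mem_centralizer_singleton_iff.1 (h7 hy)
      have h9 : (g : M) ∈ centralizer (P : Set M) ⊓ X := ⟨h8, hRX g.2⟩
      rw [hc, mem_bot] at h9
      exact hg1 h9
    have h7 : j = 2 := by
      rw [Nat.ModEq] at h3
      interval_cases j
      · exact absurd h3 (by norm_num)
      · exact absurd h3 (by norm_num)
      · rfl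
      · exact absurd h3 (by norm_num)
      · exact absurd h3 (by norm_num)
      · exact absurd h3 (by norm_num)
      · exact absurd rfl h6
    rw [h5, h7]
    norm_num
  have h2 : Fintype.card (MulAction.fixedBy ↥P (1 : ↥R)) = 729 := by
    rw [← Nat.card_eq_fintype_card]
    have : MulAction.fixedBy ↥P (1 : ↥R) = Set.univ := by
      ext y
      simp
    rw [this, Nat.card_univ, hP]
    norm_num
  rw [← Finset.add_sum_erase _ _ (Finset.mem_univ (1 : ↥R)), h2, Finset.sum_congr rfl (fun g hg =>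
    h1 g (Finset.ne_of_mem_erase hg)), Finset.sum_const, Finset.card_erase_of_mem (Finset.mem_univ _),
    Finset.card_univ, ← Nat.card_eq_fintype_card (α := ↥R), hRc] at hB
  norm_num at hB
  omega

/-- **Box F8.** -/
theorem boxF8 : BoxF8 := by
  intro M _ h X hs hc hC h39
  have := h.fin
  obtain ⟨hq, hcz, hz⟩ := simple_qs hs hc (by decide +kernel) (by decide +kernel)
  have hP : X ≤ normalizer (pCore 3 M : Set M) := by
    rw [normalizer_eq_top]
    exact le_top
  have h1 : Nat.card ↥(pCore 3 M) ∣ 3 ^ 6 := by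
    have h2 := card_mul_dvd hq hP (not_le_pcore hq Nat.prime_three)
    rw [hcz] at h2
    exact pcore_pow Nat.prime_three (h2.trans h.card) (by decide +kernel)
  have h3c : X ≤ centralizer (pCore 3 M : Set M) := by
    obtain ⟨j, hj6, hj⟩ := (Nat.dvd_prime_pow Nat.prime_three).1 h1
    rcases Nat.lt_or_ge j 6 with h2 | h2
    · exact cent_of_card hq (s := 7) (k := 5) Nat.prime_three (by norm_num) (by rw [hcz]; decide +kernel)
        (hj ▸ pow_dvd_pow 3 (by omega)) (by norm_num) (by decide +kernel)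
    · obtain rfl : j = 6 := le_antisymm hj6 h2
      exact cent_36 hq hz hP (by rw [hc]; decide +kernel) hj
  have hk : (chk1 oO8 5 7 2 && chk1 oO8 7 5 3) = true := by decide +kernel
  rw [Bool.and_eq_true] at hk
  refine ⟨le_centralizer_iff.1 h3c, ?_⟩
  by_cases h3 : pCore 3 M = ⊥
  swap
  · exact Or.inl h3
  right
  obtain ⟨L, hL, hLn, hXL, hCL, x, hx, hn, hr, hcx, hd⟩ := almost_simple h hq hcz h3c
    (cent_chk h.toSub7 hq hcz hk.1) (cent_chk h.toSub7 hq hcz hk.2) (by decide +kernel) hC h3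
  obtain ⟨h5, h6⟩ := simple_of_cent hL hCL
  have h4 := tab_all (P := fun x => x.2 % oO8 != 0 || x.2 == N7 || decide (x.1 = .psl 9 2) ||
      decide (x.1 = .psu 9 2) || x.2 == oTE6 ||
      (autTab.any fun y => decide (y.1 = x.1) && (y.2 * x.2) % 3 ^ 9 != 0) ||
      ((x.2 == oU8 || x.2 == oFi22) && autTab.any fun y => decide (y = (x.1, 2)))) (by decide +kernel) hx
  simp only [Bool.or_eq_true, bne_iff_ne, beq_iff_eq, decide_eq_true_eq, List.any_eq_true, Bool.and_eq_true] at h4
  rcases h4 with (((((h4 | h4) | h4) | h4) | h4) | ⟨y, hy, hyx, hy3⟩) | ⟨h4, y, hy, hyx⟩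
  · exact absurd (Nat.mod_eq_zero_of_dvd hd) h4
  · exact absurd h4 hn
  · rw [h4] at hr
    exact (kill_psl9 h.toSub7 hr).elim
  · rw [h4] at hr
    exact (kill_psu9 h.toSub7 hr).elim
  · exact absurd (by rw [← h6, hcx]; exact h4) (h.notTE6 L h5)
  · refine absurd (Nat.mod_eq_zero_of_dvd (h39.trans ?_)) hy3
    have hy' : (x.1, y.2) ∈ autTab := by
      rw [← hyx]
      exact hy
    exact aut_bound h hL hCL hr hcx hy'
  · refine ⟨L, hLn, h5, hCL, hXL, ?_⟩
    have h7 : Nat.card M ∣ 2 * x.2 := aut_bound h hL hCL hr hcx (hyx ▸ hy)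
    rcases h4 with h4 | h4
    · left
      rw [h4] at h7 hcx
      exact ⟨h6 ▸ hcx, h7⟩
    · right
      rw [h4] at h7 hcx
      exact ⟨h6 ▸ hcx, h7⟩

end Cfsg.Agent.R2.H14.Fr
end

private theorem dce_0d1a18a902b2 : _root_.True := by
  try have : _root_.True := by simp only [_root_.Cfsg.Agent.R2.H14.Fr.l7.eq_1]
  exact _root_.True.intro
end

-- part: R2/H14/Fr/E6Ord
section
prune_inst 0x201044606c2210000000000002000020280000000003000010400002010f90408000060042000800000208001000000003180000420000000a000000001d00000000400082080104200000800082000000000000000000000000000000041000000000000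
set_option linter.all false
open scoped Cfsg.Agent.FastGrp

/-!
# `E₆(2)` has no elements of order 117, 217 (helper14, box X2 of S5934)

* 117: the bound for the orders of semisimple elements;
* 217: an element of order 15 of `W(E₆)` acts on the orthogonal space `F₂ ^ 6` of minus type, with 28 singular vectors;
  the number of singular vectors fixed by its cube is 3 modulo 5, and 1 modulo 3.
-/

set_option autoImplicit false

namespace Cfsg.Agent.R2.H14.Fr.E6Ord

open Cfsg Cfsg.Lie Polynomial Cfsg.Agent.ChevalleyStructure Cfsg.Agent.ChevalleyStructure.CoxeterGeom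
  Cfsg.Agent.ChevalleyStructure.CoxeterGeomTypes CoxeterSystem
  Cfsg.Agent.H501.TwoCyc.Ord Cfsg.Agent.Nodes.RGDChev

/-! ### the count -/

theorem cong {α : Type*} [DecidableEq α] (S : Finset α) (f : α → α) {p : ℕ} (hp : p.Prime)
    (hS : ∀ x ∈ S, f x ∈ S) (hf : ∀ x ∈ S, f^[p] x = x) : S.card ≡ (S.filter fun x => f x = x).card [MOD p] := by
  have : Fact p.Prime := ⟨hp⟩
  let g : Function.End {x // x ∈ S} := fun x => ⟨f x, hS x x.2⟩
  have hg : ∀ (n : ℕ) (x : {x // x ∈ S}), (((g ^ n : Function.End {x // x ∈ S}) x : {x // x ∈ S}) : α) = f^[n] x := by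
    intro n
    induction n with
    | zero => intro x; rfl
    | succ n ih =>
      intro x
      rw [Function.iterate_succ_apply', ← ih x, pow_succ']
      rfl
  have h1 : g ^ p ^ 1 = 1 := by
    funext x
    apply Subtype.ext
    rw [pow_one, hg, hf x x.2]
    rfl
  have h2 := Equiv.Perm.card_fixedPoints_modEq h1
  rw [Fintype.card_coe] at h2
  have h3 : Fintype.card (Function.fixedPoints g) = (S.filter fun x => f x = x).card := by
    rw [← Fintype.card_coe]
    refine Fintype.card_congr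
      { toFun := fun x => ⟨x.1.1, Finset.mem_filter.2 ⟨x.1.2, congrArg Subtype.val x.2⟩⟩
        invFun := fun x => ⟨⟨x.1, (Finset.mem_filter.1 x.2).1⟩, Subtype.ext (Finset.mem_filter.1 x.2).2⟩
        left_inv := fun x => rfl
        right_inv := fun x => rfl }
  rwa [h3] at h2

/-- the quadratic form of `E₆` -/
def Q {R : Type*} [CommRing R] (x : Fin 6 → R) : R :=
  x 0 ^ 2 + x 1 ^ 2 + x 2 ^ 2 + x 3 ^ 2 + x 4 ^ 2 + x 5 ^ 2 - x 0 * x 2 - x 1 * x 3 - x 2 * x 3 - x 3 * x 4 -
    x 4 * x 5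

theorem card_Q : (Finset.univ.filter fun v : Fin 6 → ZMod 2 => Q v = 0).card = 28 := by decide +kernel

theorem count {B : Matrix (Fin 6) (Fin 6) (ZMod 2)} (hQ : ∀ v, Q (B.mulVec v) = Q v)
    (hB : (B ^ 2 + B + 1) * (B ^ 4 + B ^ 3 + B ^ 2 + B + 1) = 0) : B ^ 3 = 1 := by
  classical
  have h15 : B ^ 15 = 1 := by
    have h1 : B ^ 15 - 1 = ((B - 1) * (B ^ 8 - B ^ 7 + B ^ 5 - B ^ 4 + B ^ 3 - B + 1)) *
        ((B ^ 2 + B + 1) * (B ^ 4 + B ^ 3 + B ^ 2 + B + 1)) := by noncomm_ring
    rw [hB, mul_zero, sub_eq_zero] at h1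
    exact h1
  have hfix : ∀ v : Fin 6 → ZMod 2, B.mulVec v = v → v = 0 := by
    intro v hv
    have hn : ∀ n : ℕ, (B ^ n).mulVec v = v := by
      intro n
      induction n with
      | zero => rw [pow_zero, Matrix.one_mulVec]
      | succ n ih => rw [pow_succ, ← Matrix.mulVec_mulVec, hv, ih]
    have h1 : ((B ^ 2 + B + 1) * (B ^ 4 + B ^ 3 + B ^ 2 + B + 1)).mulVec v = 0 := by rw [hB, Matrix.zero_mulVec]
    have h3 : v + v = 0 := by
      funext i
      exact CharTwo.add_self_eq_zero _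
    have h2 : (B ^ 4 + B ^ 3 + B ^ 2 + B + 1).mulVec v = v := by
      simp only [Matrix.add_mulVec, Matrix.one_mulVec, hn, hv]
      rw [h3, zero_add, h3, zero_add]
    rw [← Matrix.mulVec_mulVec, h2] at h1
    simp only [Matrix.add_mulVec, Matrix.one_mulVec, hn, hv] at h1
    rwa [h3, zero_add] at h1
  have hmul : ∀ (n : ℕ) (v : Fin 6 → ZMod 2), (B.mulVec ·)^[n] v = (B ^ n).mulVec v := by
    intro n
    induction n with
    | zero => intro v; rw [pow_zero, Matrix.one_mulVec]; rfl
    | succ n ih =>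
      intro v
      rw [Function.iterate_succ_apply', ih, pow_succ', ← Matrix.mulVec_mulVec]
  have hmul3 : ∀ (n : ℕ) (v : Fin 6 → ZMod 2), ((B ^ 3).mulVec ·)^[n] v = (B ^ (3 * n)).mulVec v := by
    intro n
    induction n with
    | zero => intro v; rw [mul_zero, pow_zero, Matrix.one_mulVec]; rfl
    | succ n ih =>
      intro v
      rw [Function.iterate_succ_apply', ih, Matrix.mulVec_mulVec, ← pow_add]
      congr 2
      ring
  have hQ3 : ∀ v, Q ((B ^ 3).mulVec v) = Q v := by
    intro v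
    rw [pow_succ, pow_succ, pow_one, ← Matrix.mulVec_mulVec, ← Matrix.mulVec_mulVec, hQ, hQ, hQ]
  -- the fixed vectors of `B ^ 3`
  set T : Finset (Fin 6 → ZMod 2) := Finset.univ.filter fun v => (B ^ 3).mulVec v = v with hT
  have hT5 : 64 ≡ T.card [MOD 5] := by
    have h1 := cong (Finset.univ : Finset (Fin 6 → ZMod 2)) ((B ^ 3).mulVec ·) (p := 5) (by norm_num)
      (fun _ _ => Finset.mem_univ _) (fun x _ => by rw [hmul3, show 3 * 5 = 15 by norm_num, h15, Matrix.one_mulVec])
    rw [Finset.card_univ, Fintype.card_fun, ZMod.card, Fintype.card_fin] at h1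
    exact h1
  have hTd : T.card ∣ 2 ^ 6 := by
    let K : AddSubgroup (Fin 6 → ZMod 2) :=
      { carrier := {v | (B ^ 3).mulVec v = v}
        zero_mem' := Matrix.mulVec_zero _
        add_mem' := fun {a b} ha hb => by
          show (B ^ 3).mulVec (a + b) = a + b
          rw [Matrix.mulVec_add, ha, hb]
        neg_mem' := fun {a} ha => by
          show (B ^ 3).mulVec (-a) = -a
          rw [Matrix.mulVec_neg, ha] }
    have h1 := AddSubgroup.card_addSubgroup_dvd_card K
    rw [Nat.card_eq_fintype_card (α := Fin 6 → ZMod 2), Fintype.card_fun, ZMod.card, Fintype.card_fin] at h1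
    have h2 : Nat.card ↥K = T.card := by
      rw [← Fintype.card_coe, ← Nat.card_eq_fintype_card]
      refine Nat.card_congr (Equiv.subtypeEquivRight fun v => ?_)
      rw [hT, Finset.mem_filter]
      exact ⟨fun h => ⟨Finset.mem_univ _, h⟩, fun h => h.2⟩
    rwa [h2] at h1
  obtain ⟨k, hk, hTk⟩ := (Nat.dvd_prime_pow Nat.prime_two).1 hTd
  have hk' : k = 2 ∨ k = 6 := by
    rw [hTk, Nat.ModEq] at hT5
    interval_cases k <;> simp_all
  rcases hk' with rfl | rfl
  · exfalso
    -- the singular fixed vectors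
    set Y : Finset (Fin 6 → ZMod 2) := (Finset.univ.filter fun v => Q v = 0).filter fun v => (B ^ 3).mulVec v = v
      with hY
    have h1 : 28 ≡ Y.card [MOD 5] := by
      have h2 := cong (Finset.univ.filter fun v : Fin 6 → ZMod 2 => Q v = 0) ((B ^ 3).mulVec ·) (p := 5) (by norm_num)
        (fun x hx => by
          rw [Finset.mem_filter] at hx ⊢
          exact ⟨Finset.mem_univ _, (hQ3 x).trans hx.2⟩)
        (fun x _ => by rw [hmul3, show 3 * 5 = 15 by norm_num, h15, Matrix.one_mulVec])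
      rw [card_Q] at h2
      exact h2
    have h2 : Y.card ≡ 1 [MOD 3] := by
      have h3 := cong Y (B.mulVec ·) (p := 3) (by norm_num)
        (fun x hx => by
          simp only [hY, Finset.mem_filter, Finset.mem_univ, true_and] at hx ⊢
          refine ⟨(hQ x).trans hx.1, ?_⟩
          rw [Matrix.mulVec_mulVec, ← pow_succ, pow_succ', ← Matrix.mulVec_mulVec, hx.2])
        (fun x hx => by
          simp only [hY, Finset.mem_filter, Finset.mem_univ, true_and] at hx
          rw [hmul]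
          exact hx.2)
      have h4 : (Y.filter fun x => B.mulVec x = x) = {0} := by
        ext x
        simp only [hY, Finset.mem_filter, Finset.mem_univ, true_and, Finset.mem_singleton]
        constructor
        · exact fun h => hfix x h.2
        · rintro rfl
          refine ⟨⟨by decide, Matrix.mulVec_zero _⟩, Matrix.mulVec_zero _⟩
      rw [h4, Finset.card_singleton] at h3
      exact h3
    have h3 : Y.card ≤ 4 := by
      have h4 : Y ⊆ T := by
        intro x hx
        simp only [hY, hT, Finset.mem_filter, Finset.mem_univ, true_and] at hx ⊢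
        exact hx.2
      have := Finset.card_le_card h4
      rw [hTk] at this
      exact this
    rw [Nat.ModEq] at h1 h2
    generalize Y.card = y at h1 h2 h3
    interval_cases y <;> simp_all
  · have h1 : T = Finset.univ := by
      apply Finset.eq_univ_of_card
      rw [hTk, Fintype.card_fun, ZMod.card, Fintype.card_fin]
    have h2 : ∀ v, (B ^ 3).mulVec v = v := by
      intro v
      have : v ∈ T := h1 ▸ Finset.mem_univ v
      rw [hT, Finset.mem_filter] at this
      exact this.2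
    apply Matrix.toLin'.injective
    ext1 i
    ext1
    rw [Matrix.toLin'_apply', Matrix.toLin'_one]
    exact h2 _

/-! ### integral matrices -/

theorem pow_fifteen {R : Type*} [Ring R] {B : R} (hB : (B ^ 2 + B + 1) * (B ^ 4 + B ^ 3 + B ^ 2 + B + 1) = 0) :
    B ^ 15 = 1 := by
  have h1 : B ^ 15 - 1 = ((B - 1) * (B ^ 8 - B ^ 7 + B ^ 5 - B ^ 4 + B ^ 3 - B + 1)) *
      ((B ^ 2 + B + 1) * (B ^ 4 + B ^ 3 + B ^ 2 + B + 1)) := by noncomm_ring
  rw [hB, mul_zero, sub_eq_zero] at h1
  exact h1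

/-- integral matrices of order 5 are nontrivial modulo 2 -/
theorem eq_one_of_mod {l : ℕ} {C : Matrix (Fin l) (Fin l) ℤ} (h5 : C ^ 5 = 1)
    (h2 : C.map (Int.castRingHom (ZMod 2)) = 1) : C = 1 := by
  set N := C ^ 4 + C ^ 3 + C ^ 2 + C + 1 with hN
  have h1 : (C - 1) * N = 0 := by
    have h3 : (C - 1) * N = C ^ 5 - 1 := by rw [hN]; noncomm_ring
    rw [h3, h5, sub_self]
  have h3 : (Int.castRingHom (ZMod 2)).mapMatrix N = 1 := by
    have h4 : (Int.castRingHom (ZMod 2)).mapMatrix C = 1 := h2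
    rw [hN, map_add, map_add, map_add, map_add, map_pow, map_pow, map_pow, h4, map_one, one_pow, one_pow, one_pow]
    have h5 : (1 : Matrix (Fin l) (Fin l) (ZMod 2)) + 1 = 0 := by
      ext i j
      exact CharTwo.add_self_eq_zero _
    rw [h5, zero_add, h5, zero_add]
  have h4 : N.det ≠ 0 := by
    intro h0
    have h5 := congrArg Matrix.det h3
    rw [← RingHom.map_det, h0, map_zero, Matrix.det_one] at h5
    exact zero_ne_one h5
  have h5 : N.det • (C - 1) = 0 := by
    have h6 : (C - 1) * N * N.adjugate = 0 := by rw [h1, zero_mul]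
    rw [mul_assoc, Matrix.mul_adjugate, Matrix.mul_smul, mul_one] at h6
    exact h6
  have h6 : C - 1 = 0 := (smul_eq_zero.1 h5).resolve_left h4
  exact sub_eq_zero.1 h6

theorem integral {A : Matrix (Fin 6) (Fin 6) ℤ} (hQ : ∀ v, Q (A.mulVec v) = Q v)
    (hA : (A ^ 2 + A + 1) * (A ^ 4 + A ^ 3 + A ^ 2 + A + 1) = 0) : A ^ 3 = 1 := by
  have h15 := pow_fifteen hA
  set f := Int.castRingHom (ZMod 2) with hf
  have hB : (f.mapMatrix A ^ 2 + f.mapMatrix A + 1) *
      (f.mapMatrix A ^ 4 + f.mapMatrix A ^ 3 + f.mapMatrix A ^ 2 + f.mapMatrix A + 1) = 0 := by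
    have := congrArg f.mapMatrix hA
    simpa only [map_mul, map_add, map_pow, map_one, map_zero] using this
  have hQf : ∀ v : Fin 6 → ℤ, Q (fun i => f (v i)) = f (Q v) := by
    intro v
    simp only [Q, map_add, map_sub, map_mul, map_pow]
  have hQB : ∀ v : Fin 6 → ZMod 2, Q ((f.mapMatrix A).mulVec v) = Q v := by
    intro v
    obtain ⟨u, rfl⟩ : ∃ u : Fin 6 → ℤ, (fun i => f (u i)) = v :=
      ⟨fun i => ((v i).val : ℤ), by
        funext i
        rw [hf, eq_intCast, Int.cast_natCast, ZMod.natCast_val, ZMod.cast_id]⟩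
    have h1 : (f.mapMatrix A).mulVec (fun i => f (u i)) = fun i => f (A.mulVec u i) := by
      funext i
      exact (RingHom.map_mulVec f A u i).symm
    rw [h1, hQf, hQf, hQ]
  have h1 := count hQB hB
  apply eq_one_of_mod (l := 6)
  · rw [← pow_mul]
    exact h15
  · rw [← map_pow] at h1
    exact h1

/-! ### the Weyl group of `E₆` -/

abbrev hp6 : IsType chevE6 6 CoxeterMatrix.E₆ := by simp [IsType, typeList]

/-- the Cartan matrix -/
def E : Fin 6 → Fin 6 → ℤ := ![![2, 0, -1, 0, 0, 0], ![0, 2, 0, -1, 0, 0], ![-1, 0, 2, -1, 0, 0],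
  ![0, -1, -1, 2, -1, 0], ![0, 0, 0, -1, 2, -1], ![0, 0, 0, 0, -1, 2]]

theorem cartan_eq : ∀ i j : Fin 6, cartanOf chevE6 6 i j = E i j := by decide +kernel

theorem pairing_eq (i : Fin 6) (x : Fin 6 → ℤ) : pairing (cartanOf chevE6 6) i x = ∑ k, E i k * x k := by
  unfold pairing
  exact Finset.sum_congr rfl fun k _ => by rw [cartan_eq]

theorem Q_refl (i : Fin 6) (x : Fin 6 → ℤ) : Q (refl (cartanOf chevE6 6) i x) = Q x := by
  rw [refl_apply, pairing_eq]
  fin_cases i <;> simp [Q, E, Fin.sum_univ_succ] <;> ring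

theorem Q_rep {W : Type*} [Group W] (cs : CoxeterSystem CoxeterMatrix.E₆ W) (w : W) (x : Fin 6 → ℤ) :
    Q (rep cs hp6.isCartan w x) = Q x := by
  obtain ⟨ω, rfl⟩ := cs.wordProd_surjective w
  induction ω with
  | nil => rw [wordProd_nil, map_one, Module.End.one_apply]
  | cons i ω ih => rw [wordProd_cons, rep_mul_apply, rep_simple, Q_refl, ih]

/-! ### the group -/

theorem exists_data {F : Type} [Field F] [Fintype F] (hF : Fintype.card F = 2) {x : ↥(chevE6.group F)}
    (hx : (orderOf x).Coprime 2) : ∃ (A : Matrix (Fin 6) (Fin 6) ℤ) (S : Finset ℕ), (∀ v, Q (A.mulVec v) = Q v) ∧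
      (∀ d ∈ S, d ∈ TT6) ∧ ∑ d ∈ S, Nat.totient d ≤ 6 ∧ aeval A (∏ d ∈ S, cyclotomic d ℤ) = 0 ∧
      (∀ P : ℤ[X], aeval A P = 0 → (orderOf x : ℤ) ∣ P.eval 2) := by
  have hc2 : CharP F 2 := H364.OutLie.charP_of_card Nat.prime_two le_rfl (f := 1) hF
  have : Fact (Nat.Prime 2) := ⟨Nat.prime_two⟩
  set cs := CoxeterMatrix.E₆.toCoxeterSystem with hcs
  have := finite_W hp6 cs
  obtain ⟨w, hw⟩ := H92.TorExp.exp_untw hp6 cs hx
  set A : Matrix (Fin 6) (Fin 6) ℤ := LinearMap.toMatrixAlgEquiv' (R := ℤ) (n := Fin 6) (rep cs hp6.isCartan w) with hAdef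
  have hAn : A ^ (Nat.card CoxeterMatrix.E₆.Group) = 1 := by
    rw [hAdef, ← map_pow, ← map_pow, pow_card_eq_one', map_one, map_one]
  obtain ⟨S, h1, h2, h3⟩ := H92.TorExp.exists_set Nat.card_pos hAn
  refine ⟨A, S, fun v => ?_, fun d hd => ?_, h2, h3, fun P hP => ?_⟩
  · have h4 : A.mulVec v = rep cs hp6.isCartan w v := LinearMap.toMatrix'_mulVec _ _
    rw [h4, Q_rep]
  · have h3 : Nat.totient d ≤ 6 := (Finset.single_le_sum (f := Nat.totient) (fun _ _ => Nat.zero_le _) hd).trans h2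
    have h4 := H365.Zsig.le_two_mul_totient_sq (h1 d hd)
    have h5 : Nat.totient d ^ 2 ≤ 6 ^ 2 := Nat.pow_le_pow_left h3 2
    exact mem_TT6 d (by omega) (h1 d hd) h3
  · have h5 := hw P (by
      have h4 : (LinearMap.toMatrixAlgEquiv' (R := ℤ) (n := Fin 6)) (aeval (rep cs hp6.isCartan w) P) = 0 := by
        rw [← hP, hAdef]
        exact (Polynomial.aeval_algHom_apply (LinearMap.toMatrixAlgEquiv' (R := ℤ) (n := Fin 6)).toAlgHom _ _).symm
      exact (map_eq_zero_iff _ (LinearMap.toMatrixAlgEquiv' (R := ℤ) (n := Fin 6)).injective).1 h4)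
    rw [hF] at h5
    exact h5

theorem dvd_prod {S : Finset ℕ} (hS : ∀ d ∈ S, d ∈ TT6) {N : ℕ}
    (h : (N : ℤ) ∣ (∏ d ∈ S, cyclotomic d ℤ).eval 2) : N ∣ ∏ d ∈ S, cv d := by
  rw [eval_prod] at h
  have h3 : ∏ d ∈ S, (cyclotomic d ℤ).eval (2 : ℤ) = ((∏ d ∈ S, cv d : ℕ) : ℤ) := by
    push_cast
    exact Finset.prod_congr rfl fun d hd => cv_eq d (hS d hd)
  rw [h3] at h
  exact Int.natCast_dvd_natCast.1 h

theorem mem_of_prime {S : Finset ℕ} (hS : ∀ d ∈ S, d ∈ TT6) {p e : ℕ} (hp : p.Prime) (h : p ∣ ∏ d ∈ S, cv d)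
    (he : (TT6.all fun d => cv d % p != 0 || d == e) = true) : e ∈ S := by
  obtain ⟨d, hd, hpd⟩ := (hp.prime.dvd_finsetProd_iff _).1 h
  have h1 := List.all_eq_true.1 he d (hS d hd)
  rw [Bool.or_eq_true, bne_iff_ne, beq_iff_eq] at h1
  rw [← h1.resolve_left fun h2 => h2 (Nat.mod_eq_zero_of_dvd hpd)]
  exact hd

theorem ne_117 {F : Type} [Field F] [Fintype F] (hF : Fintype.card F = 2) (x : ↥(chevE6.group F)) :
    orderOf x ≠ 117 := by
  intro ho
  obtain ⟨A, S, -, hS, hsum, hA, hP⟩ := exists_data hF (x := x) (by rw [ho]; norm_num)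
  have h1 := hP _ hA
  rw [ho] at h1
  have h2 : 117 ∣ ∏ d ∈ S, cv d := dvd_prod hS h1
  have h12 : 12 ∈ S := mem_of_prime hS (p := 13) (by norm_num) (Dvd.dvd.trans (by norm_num) h2) (by decide +kernel)
  have h3 := Finset.sum_erase_add S Nat.totient h12
  have h4 := Finset.prod_erase_mul S cv h12
  have h5 : cv 12 = 13 := by decide
  have h6 : Nat.totient 12 = 4 := by decide
  have h7 : ∏ d ∈ S.erase 12, cv d ≤ maxp cv TT6 2 := prod_le_maxp cv TT6 2 _
    (fun d hd => hS d (Finset.mem_of_mem_erase hd)) (by omega)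
  have h8 : maxp cv TT6 2 = 7 := by decide +kernel
  have h9 : 0 < ∏ d ∈ S.erase 12, cv d := Finset.prod_pos fun d hd => cv_pos d (hS d (Finset.mem_of_mem_erase hd))
  rw [← h4, h5, show 117 = 9 * 13 by norm_num] at h2
  have h10 := Nat.dvd_of_mul_dvd_mul_right (by norm_num) h2
  have h11 := Nat.le_of_dvd h9 h10
  omega

theorem ne_217 {F : Type} [Field F] [Fintype F] (hF : Fintype.card F = 2) (x : ↥(chevE6.group F)) :
    orderOf x ≠ 217 := by
  intro ho
  obtain ⟨A, S, hQ, hS, hsum, hA, hP⟩ := exists_data hF (x := x) (by rw [ho]; norm_num)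
  have h1 := hP _ hA
  rw [ho] at h1
  have h2 : 217 ∣ ∏ d ∈ S, cv d := dvd_prod hS h1
  have h5 : 5 ∈ S := mem_of_prime hS (p := 31) (by norm_num) (Dvd.dvd.trans (by norm_num) h2) (by decide +kernel)
  have h3 : 3 ∈ S := mem_of_prime hS (p := 7) (by norm_num) (Dvd.dvd.trans (by norm_num) h2) (by decide +kernel)
  have hS2 : S = {3, 5} := by
    symm
    apply Finset.eq_of_subset_of_card_le
    · intro d hd
      simp only [Finset.mem_insert, Finset.mem_singleton] at hd
      rcases hd with rfl | rfl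
      · exact h3
      · exact h5
    · by_contra hlt
      push Not at hlt
      have h6 : ({3, 5} : Finset ℕ) ⊆ S := by
        intro d hd
        simp only [Finset.mem_insert, Finset.mem_singleton] at hd
        rcases hd with rfl | rfl
        · exact h3
        · exact h5
      obtain ⟨e, he, he'⟩ := Finset.exists_of_ssubset (Finset.ssubset_iff_subset_ne.2 ⟨h6, fun h => by
        rw [← h] at hlt
        exact lt_irrefl _ hlt⟩)
      have h7 : ∑ d ∈ insert e ({3, 5} : Finset ℕ), Nat.totient d ≤ ∑ d ∈ S, Nat.totient d := by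
        apply Finset.sum_le_sum_of_subset
        intro d hd
        rcases Finset.mem_insert.1 hd with rfl | hd
        · exact he
        · exact h6 hd
      rw [Finset.sum_insert he', Finset.sum_pair (by norm_num)] at h7
      have h8 : 0 < Nat.totient e := by
        apply Nat.totient_pos.2
        have h9 : ∀ d ∈ TT6, 0 < d := by decide
        exact h9 e (hS e he)
      have h9 : Nat.totient 3 = 2 := by decide
      have h10 : Nat.totient 5 = 4 := by decide
      omega
  have h4 : A ^ 3 = 1 := by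
    refine integral hQ ?_
    rw [hS2, Finset.prod_pair (by norm_num), cyclotomic_three, map_mul] at hA
    have h6 : cyclotomic 5 ℤ = X ^ 4 + X ^ 3 + X ^ 2 + X + 1 := by
      rw [cyclotomic_prime ℤ 5]
      simp only [Finset.sum_range_succ, Finset.sum_range_zero]
      ring
    rw [h6] at hA
    simpa only [map_add, map_pow, aeval_X, map_one] using hA
  have h6 := hP (X ^ 3 - 1) (by rw [map_sub, map_pow, aeval_X, map_one, h4, sub_self])
  rw [ho, eval_sub, eval_pow, eval_X, eval_one] at h6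
  norm_num at h6

end Cfsg.Agent.R2.H14.Fr.E6Ord

namespace Cfsg.Agent.R2.H14.Fr

open Cfsg Cfsg.Lie Cfsg.Agent.OrdDiv Cfsg.Agent.R2.H27

theorem x2 : X2 := by
  intro S _ hS x
  obtain ⟨F, _, _, hF, ⟨e⟩⟩ := hS
  exact ⟨by rw [← MulEquiv.orderOf_eq e]; exact E6Ord.ne_117 hF _,
    by rw [← MulEquiv.orderOf_eq e]; exact E6Ord.ne_217 hF _⟩

/-- **Box X2.** -/
theorem boxX2 : BoxX2 := fun x => ⟨E6Ord.ne_117 (by rw [ZMod.card]) x, E6Ord.ne_217 (by rw [ZMod.card]) x⟩

end Cfsg.Agent.R2.H14.Fr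

private theorem dce_b41b9b3b9df2 : _root_.True := by
  try have : _root_.True := by simp only [_root_.Cfsg.Agent.R2.H14.Fr.E6Ord.Q.eq_1]
  try have : _root_.True := by simp only [_root_.Cfsg.Agent.R2.H14.Fr.E6Ord.E.eq_1]
  exact _root_.True.intro
end

-- part: R2/H14/Fr/UEight
section
set_option linter.all false
open scoped Cfsg.Agent.FastGrp

/-!
# Elements of order three of `U₈(2)` (helper14, box X1 of S5934)

A simple subgroup of order divisible by 25 of `SU₈(2)` does not commute with an element of order three: an eigenspace of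
the latter is nondegenerate of dimension at most 7, and 25 does not divide `|GU_m(2)|`, `m ≤ 7`.
-/

set_option autoImplicit false
set_option linter.unusedSectionVars false

namespace Cfsg.Agent.R2.H14.Fr.UEight

open Cfsg Matrix Cfsg.Agent.OrdDiv Cfsg.Agent.R2.H27
open Cfsg.Agent.ClassicalGeometry

section lin

variable {F : Type} [Field F] [Fintype F] (hF : Fintype.card F = 2 ^ 2)

include hF

theorem cube {a : F} (ha : a ≠ 0) : a ^ 3 = 1 := by
  have := FiniteField.pow_card_sub_one_eq_one a ha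
  rwa [hF] at this

theorem char_two : CharP F 2 := by
  have := H364.OutLie.charP_of_card Nat.prime_two (by norm_num : 1 ≤ 2) (f := 2) hF
  exact this

theorem exists_omega : ∃ w : F, w ^ 2 + w + 1 = 0 := by
  classical
  by_contra hcon
  push Not at hcon
  have h1 : ∀ a : F, a = 0 ∨ a = 1 := by
    intro a
    by_contra h
    push Not at h
    have h2 : (a - 1) * (a ^ 2 + a + 1) = 0 := by
      have := cube hF h.1
      linear_combination this
    rcases mul_eq_zero.1 h2 with h3 | h3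
    · exact h.2 (sub_eq_zero.1 h3)
    · exact hcon a h3
  have h2 : (Finset.univ : Finset F) ⊆ {0, 1} := by
    intro a _
    simpa using h1 a
  have h3 := Finset.card_le_card h2
  rw [Finset.card_univ, hF] at h3
  have h4 := (Finset.card_insert_le (0 : F) {1}).trans (by rw [Finset.card_singleton])
  omega

variable {n : ℕ} {C : Matrix (Fin n) (Fin n) F}

theorem herm_add_right (u v w : Fin n → F) : hermForm n F 2 u (v + w) = hermForm n F 2 u v + hermForm n F 2 u w := by
  have := char_two hF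
  simp only [hermForm, Pi.add_apply, CharTwo.add_sq, mul_add, Finset.sum_add_distrib]

theorem herm_smul_left (a : F) (u v : Fin n → F) : hermForm n F 2 (a • u) v = a * hermForm n F 2 u v := by
  simp only [hermForm, Pi.smul_apply, smul_eq_mul, Finset.mul_sum, mul_assoc]

theorem herm_smul_right (a : F) (u v : Fin n → F) : hermForm n F 2 u (a • v) = a ^ 2 * hermForm n F 2 u v := by
  simp only [hermForm, Pi.smul_apply, smul_eq_mul, Finset.mul_sum, mul_pow]
  exact Finset.sum_congr rfl fun i _ => by ring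

/-- the eigenspaces of a unitary matrix are orthogonal -/
theorem orth (hC : ∀ u v, hermForm n F 2 (C *ᵥ u) (C *ᵥ v) = hermForm n F 2 u v) {a b : F} (_ : a ≠ 0) (hb : b ≠ 0)
    (hab : a ≠ b) {u v : Fin n → F} (hu : C *ᵥ u = a • u) (hv : C *ᵥ v = b • v) : hermForm n F 2 u v = 0 := by
  have h1 := hC u v
  rw [hu, hv, herm_smul_left hF, herm_smul_right hF] at h1
  by_contra h0
  apply hab
  have h2 : a * b ^ 2 = 1 := by
    have h3 : (a * b ^ 2) * hermForm n F 2 u v = 1 * hermForm n F 2 u v := by rw [one_mul, mul_assoc]; exact h1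
    exact mul_right_cancel₀ h0 h3
  have h3 := cube hF hb
  calc a = a * b ^ 3 := by rw [h3, mul_one]
    _ = (a * b ^ 2) * b := by ring
    _ = b := by rw [h2, one_mul]

/-- the projection on the eigenspace -/
def prj (C : Matrix (Fin n) (Fin n) F) (a : F) (v : Fin n → F) : Fin n → F :=
  v + a ^ 2 • C *ᵥ v + a • C *ᵥ (C *ᵥ v)

theorem mul_prj (hC3 : C ^ 3 = 1) {a : F} (ha : a ≠ 0) (v : Fin n → F) : C *ᵥ prj C a v = a • prj C a v := by
  have h3 := cube hF ha
  have h4 : C *ᵥ (C *ᵥ (C *ᵥ v)) = v := by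
    rw [mulVec_mulVec, mulVec_mulVec, ← pow_two, ← pow_succ, hC3, one_mulVec]
  unfold prj
  rw [mulVec_add, mulVec_add, mulVec_smul, mulVec_smul, h4, smul_add, smul_add, smul_smul, smul_smul, ← pow_succ', h3,
    one_smul, ← pow_two]
  abel

theorem sum_prj {w : F} (hw : w ^ 2 + w + 1 = 0) (v : Fin n → F) :
    prj C 1 v + prj C w v + prj C (w ^ 2) v = v := by
  have := char_two hF
  have hw0 : w ≠ 0 := by
    rintro rfl
    simp at hw
  have h3 := cube hF hw0
  have h4 : (w ^ 2) ^ 2 = w := by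
    calc (w ^ 2) ^ 2 = w ^ 3 * w := by ring
      _ = w := by rw [h3, one_mul]
  have h2 : ∀ x : Fin n → F, x + x = 0 := fun x => funext fun i => CharTwo.add_self_eq_zero _
  unfold prj
  rw [h4, one_pow]
  have e : v + (1 : F) • C *ᵥ v + (1 : F) • C *ᵥ (C *ᵥ v) + (v + w ^ 2 • C *ᵥ v + w • C *ᵥ (C *ᵥ v)) +
      (v + w • C *ᵥ v + w ^ 2 • C *ᵥ (C *ᵥ v)) =
      v + (v + v) + (w ^ 2 + w + 1) • C *ᵥ v + (w ^ 2 + w + 1) • C *ᵥ (C *ᵥ v) := by
    module
  rw [e, h2, hw, zero_smul, zero_smul, add_zero, add_zero, add_zero]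

/-- the eigenspace -/
def eig (C : Matrix (Fin n) (Fin n) F) (a : F) : Submodule F (Fin n → F) where
  carrier := {v | C *ᵥ v = a • v}
  zero_mem' := by
    show C *ᵥ 0 = a • (0 : Fin n → F)
    rw [mulVec_zero, smul_zero]
  add_mem' := fun {u v} hu hv => by
    show C *ᵥ (u + v) = a • (u + v)
    rw [mulVec_add, hu, hv, smul_add]
  smul_mem' := fun c v hv => by
    show C *ᵥ (c • v) = a • (c • v)
    rw [mulVec_smul, hv, smul_comm]

theorem nondeg (hC : ∀ u v, hermForm n F 2 (C *ᵥ u) (C *ᵥ v) = hermForm n F 2 u v) (hC3 : C ^ 3 = 1) {w : F}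
    (hw : w ^ 2 + w + 1 = 0) {a : F} (ha : a ≠ 0) (u : Fin n → F) (hu : u ∈ eig C a)
    (h : ∀ v ∈ eig C a, hermForm n F 2 u v = 0) : u = 0 := by
  have hw0 : w ≠ 0 := by
    rintro rfl
    simp at hw
  have key : ∀ b : F, b ≠ 0 → ∀ v, hermForm n F 2 u (prj C b v) = 0 := by
    intro b hb v
    by_cases hab : a = b
    · subst hab
      exact h _ (mul_prj hF hC3 ha v)
    · exact orth hF hC ha hb hab hu (mul_prj hF hC3 hb v)
  have h1 : ∀ v, hermForm n F 2 u v = 0 := by
    intro v
    rw [← sum_prj hF (C := C) hw v, herm_add_right hF, herm_add_right hF, key 1 one_ne_zero, key w hw0,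
      key (w ^ 2) (pow_ne_zero 2 hw0), add_zero, add_zero]
  funext i
  have h2 := h1 (Pi.single i 1)
  rw [hermForm, Finset.sum_eq_single i] at h2
  · simpa using h2
  · intro j _ hj
    rw [Pi.single_eq_of_ne hj]
    ring
  · intro h3
    exact absurd (Finset.mem_univ i) h3

theorem exists_eig (hC3 : C ^ 3 = 1) (hC1 : C ≠ 1) (hdet : C.det = 1) (hn : n = 8) : ∃ a : F, a ≠ 0 ∧
    eig C a ≠ ⊥ ∧ eig C a ≠ ⊤ := by
  subst hn
  obtain ⟨w, hw⟩ := exists_omega hF
  have hw0 : w ≠ 0 := by
    rintro rfl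
    simp at hw
  have htop : ∀ a : F, a ≠ 0 → eig C a ≠ ⊤ := by
    intro a ha h
    have h1 : C = a • 1 := by
      apply Matrix.ext_of_mulVec_single
      intro i
      have h2 : (Pi.single i 1 : Fin 8 → F) ∈ eig C a := h ▸ Submodule.mem_top
      rw [show C *ᵥ Pi.single i 1 = a • Pi.single i 1 from h2, smul_mulVec, one_mulVec]
    rw [h1, det_smul, det_one, mul_one, Fintype.card_fin] at hdet
    have h3 := cube hF ha
    have h4 : a = 1 := by
      have h5 : a ^ 2 = 1 := by
        calc a ^ 2 = (a ^ 3) ^ 2 * a ^ 2 := by rw [h3]; ring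
          _ = a ^ 8 := by ring
          _ = 1 := hdet
      calc a = a ^ 3 * a := by rw [h3, one_mul]
        _ = (a ^ 2) ^ 2 := by ring
        _ = 1 := by rw [h5, one_pow]
    rw [h4, one_smul] at h1
    exact hC1 h1
  by_contra hcon
  push Not at hcon
  have hb : ∀ a : F, a ≠ 0 → ∀ v, prj C a v = 0 := by
    intro a ha v
    have h1 : eig C a = ⊥ := by
      by_contra h
      exact htop a ha (hcon a ha h)
    have h2 : prj C a v ∈ eig C a := mul_prj hF hC3 ha v
    rwa [h1, Submodule.mem_bot] at h2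
  have h1 := sum_prj hF (C := C) hw (Pi.single 0 1)
  rw [hb 1 one_ne_zero, hb w hw0, hb (w ^ 2) (pow_ne_zero 2 hw0), add_zero, add_zero] at h1
  have h2 := congrFun h1 0
  simp at h2

theorem card_gu (m : ℕ) (hm : m ≤ 7) : ¬ 25 ∣ Nat.card (GU m F 2) := by
  rw [S0277.result hF]
  have h : ∀ m ∈ Finset.range 8, ¬ 25 ∣ 2 ^ (m * (m - 1) / 2) *
      ∏ i ∈ Finset.range m, (if Even i then 2 ^ (i + 1) + 1 else 2 ^ (i + 1) - 1) := by decide +kernel
  exact h m (Finset.mem_range.2 (by omega))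

/-- **The key.** -/
theorem key {X : Type*} [Group X] [IsSimpleGroup X] [Finite X] (h25 : 25 ∣ Nat.card X) (f : X →* GU 8 F 2)
    (hf : Function.Injective f) {c : GU 8 F 2} (hc : ∀ x, f x * c = c * f x) (h3 : orderOf c = 3)
    (hdet : (((c : GU 8 F 2) : GL (Fin 8) F) : Matrix (Fin 8) (Fin 8) F).det = 1) : False := by
  set C : Matrix (Fin 8) (Fin 8) F := ((c : GL (Fin 8) F) : Matrix (Fin 8) (Fin 8) F) with hCdef
  have hC3 : C ^ 3 = 1 := by
    have h1 : c ^ 3 = 1 := by rw [← h3, pow_orderOf_eq_one]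
    have h2 := congrArg (fun g : GU 8 F 2 => ((g : GL (Fin 8) F) : Matrix (Fin 8) (Fin 8) F)) h1
    simpa using h2
  have hC1 : C ≠ 1 := by
    intro h
    have h1 : c = 1 := Subtype.ext (Units.ext h)
    rw [h1, orderOf_one] at h3
    exact absurd h3 (by norm_num)
  have hC : ∀ u v, hermForm 8 F 2 (C *ᵥ u) (C *ᵥ v) = hermForm 8 F 2 u v := c.2
  obtain ⟨w, hw⟩ := exists_omega hF
  obtain ⟨a, ha, hbot, htop⟩ := exists_eig hF hC3 hC1 hdet rfl
  have hk1 : 0 < Module.finrank F (eig C a) := by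
    rw [Nat.pos_iff_ne_zero, Ne, Submodule.finrank_eq_zero]
    exact hbot
  have hk2 : Module.finrank F (eig C a) < 8 := by
    have := Submodule.finrank_lt htop
    rwa [Module.finrank_fin_fun] at this
  obtain ⟨e⟩ := S0837.result hF 8 (Module.finrank F (eig C a)) hk2.le (eig C a) rfl
    (fun u hu h => nondeg hF hC hC3 hw ha u hu h)
  have hmem : ∀ x, f x ∈ (stabilizing (glToMat (Fin 8) F) (eig C a : Set (Fin 8 → F))).subgroupOf (GU 8 F 2) := by
    intro x
    rw [Subgroup.mem_subgroupOf]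
    have h1 : ∀ y : X, ∀ v ∈ eig C a, (((f y : GU 8 F 2) : GL (Fin 8) F) : Matrix (Fin 8) (Fin 8) F) *ᵥ v ∈ eig C a := by
      intro y v hv
      have h2 := congrArg (fun g : GU 8 F 2 => ((g : GL (Fin 8) F) : Matrix (Fin 8) (Fin 8) F)) (hc y)
      have h3 : (((f y : GU 8 F 2) : GL (Fin 8) F) : Matrix (Fin 8) (Fin 8) F) * C =
          C * (((f y : GU 8 F 2) : GL (Fin 8) F) : Matrix (Fin 8) (Fin 8) F) := by simpa using h2
      show C *ᵥ (_ *ᵥ v) = a • (_ *ᵥ v)
      rw [mulVec_mulVec, ← h3, ← mulVec_mulVec, show C *ᵥ v = a • v from hv, mulVec_smul]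
    intro v
    refine ⟨fun hv => h1 x v hv, fun hv => ?_⟩
    have h2 := h1 x⁻¹ _ hv
    have h3 : (((f x⁻¹ : GU 8 F 2) : GL (Fin 8) F) : Matrix (Fin 8) (Fin 8) F) *
        (((f x : GU 8 F 2) : GL (Fin 8) F) : Matrix (Fin 8) (Fin 8) F) = 1 := by
      have h4 : f x⁻¹ * f x = 1 := by rw [← map_mul, inv_mul_cancel, map_one]
      exact congrArg (fun g : GU 8 F 2 => ((g : GL (Fin 8) F) : Matrix (Fin 8) (Fin 8) F)) h4
    have h4 : (((f x⁻¹ : GU 8 F 2) : GL (Fin 8) F) : Matrix (Fin 8) (Fin 8) F) *ᵥ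
      ((((f x : GU 8 F 2) : GL (Fin 8) F) : Matrix (Fin 8) (Fin 8) F) *ᵥ v) = v := by
      rw [mulVec_mulVec, h3, one_mulVec]
    have h5 : (((f x⁻¹ : GU 8 F 2) : GL (Fin 8) F) : Matrix (Fin 8) (Fin 8) F) *ᵥ
      ((glToMat (Fin 8) F) ((f x : GU 8 F 2) : GL (Fin 8) F) *ᵥ v) = v := h4
    rw [h5] at h2
    exact h2
  let g := e.toMonoidHom.comp (f.codRestrict _ hmem)
  have hg : Function.Injective g := by
    refine e.injective.comp fun x y hxy => hf ?_
    exact congrArg Subtype.val hxy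
  have hmain : ∀ (k : ℕ), k ≤ 7 → ∀ φ : X →* GU k F 2, φ.ker = ⊥ → False := by
    intro k hk φ hφ
    have h1 : Nat.card X ∣ Nat.card (GU k F 2) := by
      rw [MonoidHom.ker_eq_bot_iff] at hφ
      rw [Nat.card_congr (MonoidHom.ofInjective hφ).toEquiv]
      exact Subgroup.card_subgroup_dvd_card _
    exact card_gu hF k hk (h25.trans h1)
  rcases ((MonoidHom.fst _ _).comp g).normal_ker.eq_bot_or_eq_top with h1 | h1
  · exact hmain _ (by omega) _ h1
  rcases ((MonoidHom.snd _ _).comp g).normal_ker.eq_bot_or_eq_top with h2 | h2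
  · exact hmain _ (by omega) _ h2
  · have h4 : ∀ x : X, x = 1 := by
      intro x
      apply hg
      rw [map_one]
      refine Prod.ext ?_ ?_
      · have : x ∈ ((MonoidHom.fst _ _).comp g).ker := h1 ▸ Subgroup.mem_top x
        exact this
      · have : x ∈ ((MonoidHom.snd _ _).comp g).ker := h2 ▸ Subgroup.mem_top x
        exact this
    obtain ⟨x, y, hxy⟩ := (inferInstance : Nontrivial X)
    exact hxy ((h4 x).trans (h4 y).symm)

end lin

/-- **Box X1.** -/
theorem boxX1 : BoxX1 := by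
  intro L _ hL hcL X hX hcX c hc hcX'
  have : Finite L := Nat.finite_of_card_ne_zero (by rw [hcL]; decide +kernel)
  have hna : ¬ IsMulCommutative L := not_comm_of_card (by
    rw [hcL]
    intro hp
    exact absurd ((Nat.prime_dvd_prime_iff_eq Nat.prime_two hp).1 (by decide +kernel)) (by decide +kernel))
  obtain ⟨x, hx, hr, hcx⟩ := exists_tab hna (by rw [hcL]; decide +kernel)
  have h1 := tab_all (P := fun x => x.2 != oU8 || decide (x.1 = .psu 8 2)) (by decide +kernel) hx
  rw [Bool.or_eq_true, bne_iff_ne, decide_eq_true_eq] at h1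
  have h2 := h1.resolve_left fun hne => hne (hcx.symm.trans hcL)
  rw [h2] at hr
  obtain ⟨F, _, _, hF, ⟨e⟩⟩ := hr
  have hcen : Subgroup.center (SU 8 F 2) = ⊥ := by
    rw [← Subgroup.card_eq_one, Cfsg.Agent.S0279.result hF 8 (by norm_num)]
    norm_num
  let φ : L ≃* SU 8 F 2 := e.trans ((QuotientGroup.quotientMulEquivOfEq hcen).trans QuotientGroup.quotientBot)
  let ψ : SU 8 F 2 →* GU 8 F 2 := ((Matrix.SpecialLinearGroup.toGL).comp (SU 8 F 2).subtype).codRestrict (GU 8 F 2)
    fun s => s.2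
  have hψ : Function.Injective ψ := by
    intro s t hst
    exact Subtype.ext (Matrix.SpecialLinearGroup.toGL_injective (congrArg Subtype.val hst))
  refine key hF (X := ↥X) (by rw [hcX]; decide +kernel) ((ψ.comp φ.toMonoidHom).comp X.subtype)
    (hψ.comp (φ.injective.comp X.subtype_injective)) (c := ψ (φ c)) (fun x => ?_) ?_ ?_
  · show ψ (φ x) * ψ (φ c) = ψ (φ c) * ψ (φ x)
    rw [← map_mul, ← map_mul, ← map_mul, ← map_mul, Subgroup.mem_centralizer_iff.1 hcX' x x.2]
  · rw [orderOf_injective ψ hψ, MulEquiv.orderOf_eq, hc]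
  · exact (φ c).1.2

end Cfsg.Agent.R2.H14.Fr.UEight
end

-- part: R2/H14/Fr/SubE7
section
set_option linter.all false
open scoped Cfsg.Agent.FastGrp

/-!
# The subgroups of `E₇(2)` satisfy `Sub7` (helper14, box X0 of S5934)
-/

set_option autoImplicit false

namespace Cfsg.Agent.R2.H14.Fr.SubE7

open Cfsg Cfsg.Lie Cfsg.Agent.R2.H27 Cfsg.Agent.OrdDiv
open Cfsg.Agent.H129 Cfsg.Agent.H129.TorusChar Cfsg.Agent.H129.RealT Cfsg.Agent.H378 Cfsg.Agent.H824.E7.Tor

/-- the centralisers of the elements of order `r` -/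
theorem cent_dvd {G : Type*} [Group G] [Finite G] {T : Subgroup G} {r : ℕ} (hr : r.Prime) (hrT : r ∣ Nat.card ↥T)
    (hc : ∀ y ∈ T, orderOf y = r → Subgroup.centralizer {y} ≤ T) {g : G} (hg : orderOf g = r) :
    Nat.card (Subgroup.centralizer {g} : Subgroup G) ∣ Nat.card ↥T := by
  have hf : Fact r.Prime := ⟨hr⟩
  obtain ⟨⟨y0, hy0T⟩, hy0⟩ := exists_prime_orderOf_dvd_card' (G := ↥T) r hrT
  rw [Subgroup.orderOf_mk] at hy0
  obtain ⟨P, hP⟩ := IsPGroup.exists_le_sylow (p := r) (P := Subgroup.zpowers y0) (by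
    apply IsPGroup.of_card (n := 1)
    rw [Nat.card_zpowers, hy0, pow_one])
  have hy0P : y0 ∈ (P : Subgroup G) := hP (Subgroup.mem_zpowers y0)
  have hPT : (P : Subgroup G) ≤ T := by
    have hnt : Nontrivial ↥(P : Subgroup G) := by
      refine ⟨⟨⟨y0, hy0P⟩, 1, fun h => ?_⟩⟩
      have h1 : y0 = 1 := congrArg Subtype.val h
      rw [h1, orderOf_one] at hy0
      exact hr.one_lt.ne hy0
    have hZ : Nontrivial (Subgroup.center ↥(P : Subgroup G)) := P.isPGroup'.center_nontrivial
    have hZp : IsPGroup r (Subgroup.center ↥(P : Subgroup G)) := P.isPGroup'.to_subgroup _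
    obtain ⟨n, hn, hn'⟩ := hZp.nontrivial_iff_card.1 hZ
    obtain ⟨⟨⟨z, hzP⟩, hzZ⟩, hz⟩ := exists_prime_orderOf_dvd_card' (G := Subgroup.center ↥(P : Subgroup G)) r (by
      rw [hn']; exact dvd_pow_self r hn.ne')
    rw [Subgroup.orderOf_mk, Subgroup.orderOf_mk] at hz
    have hzc : ∀ x ∈ (P : Subgroup G), x * z = z * x := by
      intro x hx
      have := Subgroup.mem_center_iff.1 hzZ ⟨x, hx⟩
      exact congrArg Subtype.val this
    have hzT : z ∈ T := hc y0 hy0T hy0 (Subgroup.mem_centralizer_singleton_iff.2 (hzc y0 hy0P).symm)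
    intro x hx
    exact hc z hzT hz (Subgroup.mem_centralizer_singleton_iff.2 (hzc x hx))
  obtain ⟨Q, hQ⟩ := IsPGroup.exists_le_sylow (p := r) (P := Subgroup.zpowers g) (by
    apply IsPGroup.of_card (n := 1)
    rw [Nat.card_zpowers, hg, pow_one])
  obtain ⟨a, ha⟩ := MulAction.exists_smul_eq G Q P
  have h1 : a * g * a⁻¹ ∈ T := by
    apply hPT
    rw [← ha]
    have h2 : g ∈ (Q : Subgroup G) := hQ (Subgroup.mem_zpowers _)
    rw [Sylow.coe_subgroup_smul]
    exact Subgroup.smul_mem_pointwise_smul g (MulAut.conj a) (Q : Subgroup G) h2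
  have h2 : orderOf (a * g * a⁻¹) = r := by
    rw [← hg]
    exact MulEquiv.orderOf_eq (MulAut.conj a) g
  have h3 := hc _ h1 h2
  have h4 : (Subgroup.centralizer {g} : Subgroup G).map (MulAut.conj a).toMonoidHom ≤ T := by
    rintro _ ⟨y, hy, rfl⟩
    apply h3
    rw [SetLike.mem_coe, Subgroup.mem_centralizer_singleton_iff] at hy
    rw [Subgroup.mem_centralizer_singleton_iff]
    show (a * y * a⁻¹) * (a * g * a⁻¹) = (a * g * a⁻¹) * (a * y * a⁻¹)
    calc (a * y * a⁻¹) * (a * g * a⁻¹) = a * (y * g) * a⁻¹ := by group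
      _ = a * (g * y) * a⁻¹ := by rw [hy]
      _ = _ := by group
  have h5 := Subgroup.card_dvd_of_le h4
  rwa [← Nat.card_congr ((Subgroup.centralizer {g} : Subgroup G).equivMapOfInjective _
    (MulAut.conj a).injective).toEquiv] at h5

theorem card_G7 : Nat.card G7 = N7 := by
  have h := Cfsg.Agent.S1064.result (F := ZMod 2) (q := 2) (ZMod.card 2)
  rw [show Nat.gcd 2 (2 - 1) = 1 by norm_num, one_mul] at h
  rw [h]
  decide +kernel

instance finite_G7 : Finite G7 := Nat.finite_of_card_ne_zero (by rw [card_G7]; decide +kernel)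

theorem dd_two : dd 2 = 1 := by norm_num [dd]

theorem order_two {r i : ℕ} (hr : r.Prime) (h : ((2 : ℕ) ^ i - 1) % r = 0)
    (h1 : ∀ j ∈ Finset.Ico 1 i, (2 ^ j - 1) % r ≠ 0) (hi : 0 < i) : orderOf ((2 : ℕ) : ZMod r) = i := by
  have hf : Fact r.Prime := ⟨hr⟩
  have key : ∀ j, ((2 : ℕ) : ZMod r) ^ j = 1 ↔ (2 ^ j - 1) % r = 0 := by
    intro j
    rw [← Nat.dvd_iff_mod_eq_zero, ← ZMod.natCast_eq_zero_iff, Nat.cast_sub (Nat.one_le_two_pow)]
    push_cast
    rw [sub_eq_zero]
  rw [orderOf_eq_iff hi]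
  refine ⟨(key i).2 h, fun j hj hj0 => ?_⟩
  rw [Ne, key]
  exact h1 j (Finset.mem_Ico.2 ⟨hj0, hj⟩)

theorem c127 {z : G7} (hz : orderOf z = 127) : Nat.card (Subgroup.centralizer {z} : Subgroup G7) ∣ 127 := by
  have hr : Nat.Prime 127 := by norm_num
  have ho : orderOf ((2 : ℕ) : ZMod 127) = 7 := order_two hr (by norm_num) (by decide +kernel) (by norm_num)
  obtain ⟨hW, h2, h3, h7⟩ := not_W hr ho (by norm_num) (by norm_num)
  obtain ⟨T, hT, hc, hcen⟩ := tor (ZMod.card 2) DataE7s.hA DataE7s.chainOK DataE7s.cycOK DataE7s.rootOK (N := 127)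
    (by rw [DataE7s.fN_eq]; norm_num) (by norm_num)
  rw [dd_two, one_mul] at hc
  have hd := CycTab.dvd7 hr ho
  rw [CycTab.pv7] at hd
  rw [← hc]
  refine cent_dvd hr (by rw [hc]) (hcen 127 hr hW fun s hs => ?_) hz
  exact not_G hr h2 h7 (DataE7s.dvd_of_G (x := ((2 : ℕ) : ℤ)) (by
    have e : 1 + (((2 : ℕ) : ℤ) : ℤ) + ((2 : ℕ) : ℤ) ^ 2 + ((2 : ℕ) : ℤ) ^ 3 + ((2 : ℕ) : ℤ) ^ 4 + ((2 : ℕ) : ℤ) ^ 5 + ((2 : ℕ) : ℤ) ^ 6 =
      ((2 : ℕ) : ℤ) ^ 6 + ((2 : ℕ) : ℤ) ^ 5 + ((2 : ℕ) : ℤ) ^ 4 + ((2 : ℕ) : ℤ) ^ 3 + ((2 : ℕ) : ℤ) ^ 2 + ((2 : ℕ) : ℤ) + 1 := by ring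
    rw [e]; exact hd) s hs)

theorem c73 {z : G7} (hz : orderOf z = 73) : Nat.card (Subgroup.centralizer {z} : Subgroup G7) ∣ 73 := by
  have hr : Nat.Prime 73 := by norm_num
  have ho : orderOf ((2 : ℕ) : ZMod 73) = 9 := order_two hr (by norm_num) (by decide +kernel) (by norm_num)
  obtain ⟨hW, h2, h3, h7⟩ := not_W hr ho (by norm_num) (by norm_num)
  obtain ⟨T, hT, hc, hcen⟩ := tor (ZMod.card 2) DataE7n.hA DataE7n.chainOK DataE7n.cycOK DataE7n.rootOK (N := 73)
    (by rw [DataE7n.fN_eq]; norm_num) (by norm_num)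
  rw [dd_two, one_mul] at hc
  have hd := CycTab.dvd9 hr ho
  rw [CycTab.pv9] at hd
  rw [← hc]
  refine cent_dvd hr (by rw [hc]) (hcen 73 hr hW fun s hs => ?_) hz
  rcases DataE7n.dvd_of_G (x := ((2 : ℕ) : ℤ)) (by
    have e : 1 + ((2 : ℕ) : ℤ) ^ 3 + ((2 : ℕ) : ℤ) ^ 6 = ((2 : ℕ) : ℤ) ^ 6 + ((2 : ℕ) : ℤ) ^ 3 + 1 := by ring
    rw [e]; exact hd) s hs with h | h
  · exact CycT.not_one hr h
  · exact h3 ((Nat.prime_dvd_prime_iff_eq hr Nat.prime_three).1 (by exact_mod_cast h))

theorem c43 {z : G7} (hz : orderOf z = 43) : Nat.card (Subgroup.centralizer {z} : Subgroup G7) ∣ 129 := by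
  have hr : Nat.Prime 43 := by norm_num
  have ho : orderOf ((2 : ℕ) : ZMod 43) = 14 := order_two hr (by norm_num) (by decide +kernel) (by norm_num)
  obtain ⟨hW, h2, h3, h7⟩ := not_W hr ho (by norm_num) (by norm_num)
  obtain ⟨T, hT, hc, hcen⟩ := tor (ZMod.card 2) DataE7m.hA DataE7m.chainOK DataE7m.cycOK DataE7m.rootOK (N := 129)
    (by rw [DataE7m.fN_eq]; norm_num) (by norm_num)
  rw [dd_two, one_mul] at hc
  have hd := CycTab.dvd14 hr ho
  rw [CycTab.pv14] at hd
  rw [← hc]
  refine cent_dvd hr (by rw [hc]; norm_num) (hcen 43 hr hW fun s hs => ?_) hz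
  exact not_G hr h2 h7 (DataE7m.dvd_of_G (x := ((2 : ℕ) : ℤ)) (by
    have e : 1 - ((2 : ℕ) : ℤ) + ((2 : ℕ) : ℤ) ^ 2 - ((2 : ℕ) : ℤ) ^ 3 + ((2 : ℕ) : ℤ) ^ 4 - ((2 : ℕ) : ℤ) ^ 5 + ((2 : ℕ) : ℤ) ^ 6 =
      ((2 : ℕ) : ℤ) ^ 6 - ((2 : ℕ) : ℤ) ^ 5 + ((2 : ℕ) : ℤ) ^ 4 - ((2 : ℕ) : ℤ) ^ 3 + ((2 : ℕ) : ℤ) ^ 2 - ((2 : ℕ) : ℤ) + 1 := by ring
    rw [e]; exact hd) s hs)

theorem c19 {z : G7} (hz : orderOf z = 19) : Nat.card (Subgroup.centralizer {z} : Subgroup G7) ∣ 171 := by
  have hr : Nat.Prime 19 := by norm_num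
  have ho : orderOf ((2 : ℕ) : ZMod 19) = 18 := order_two hr (by norm_num) (by decide +kernel) (by norm_num)
  obtain ⟨hW, h2, h3, h7⟩ := not_W hr ho (by norm_num) (by norm_num)
  obtain ⟨T, hT, hc, hcen⟩ := tor (ZMod.card 2) DataE7h.hA DataE7h.chainOK DataE7h.cycOK DataE7h.rootOK (N := 171)
    (by rw [DataE7h.fN_eq]; norm_num) (by norm_num)
  rw [dd_two, one_mul] at hc
  have hd := CycTab.dvd18 hr ho
  rw [CycTab.pv18] at hd
  rw [← hc]
  refine cent_dvd hr (by rw [hc]; norm_num) (hcen 19 hr hW fun s hs => ?_) hz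
  rcases DataE7h.dvd_of_G (x := ((2 : ℕ) : ℤ)) (by
    have e : 1 - ((2 : ℕ) : ℤ) ^ 3 + ((2 : ℕ) : ℤ) ^ 6 = ((2 : ℕ) : ℤ) ^ 6 - ((2 : ℕ) : ℤ) ^ 3 + 1 := by ring
    rw [e]; exact hd) s hs with h | h
  · exact CycT.not_one hr h
  · exact h3 ((Nat.prime_dvd_prime_iff_eq hr Nat.prime_three).1 (by exact_mod_cast h))

theorem prim_two {r i : ℕ} (hr : r.Prime) (h2 : r ≠ 2) (h : ((2 : ℕ) ^ i - 1) % r = 0)
    (h1 : ∀ j ∈ Finset.Ico 1 i, (2 ^ j - 1) % r ≠ 0) (hi : 0 < i) : H436.Prim 2 i r := by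
  have ho := order_two hr h h1 hi
  have hf : Fact r.Prime := ⟨hr⟩
  refine ⟨hr, fun m => ?_, fun hd => h2 ((Nat.prime_dvd_prime_iff_eq hr Nat.prime_two).1 hd)⟩
  rw [← ho, orderOf_dvd_iff_pow_eq_one, ← ZMod.natCast_eq_zero_iff, Nat.cast_sub (Nat.one_le_two_pow)]
  push_cast
  rw [sub_eq_zero]

theorem n13 (z : G7) : orderOf z ≠ 13 * 11 ∧ orderOf z ≠ 13 * 17 ∧ orderOf z ≠ 13 * 31 := by
  have h := H824.E7.Facts.nad_L (ZMod 2)
  rw [ZMod.card] at h
  have p13 : H436.Prim 2 12 13 := prim_two (by norm_num) (by norm_num) (by norm_num) (by decide +kernel) (by norm_num)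
  have p11 : H436.Prim 2 10 11 := prim_two (by norm_num) (by norm_num) (by norm_num) (by decide +kernel) (by norm_num)
  have p17 : H436.Prim 2 8 17 := prim_two (by norm_num) (by norm_num) (by norm_num) (by decide +kernel) (by norm_num)
  have p31 : H436.Prim 2 5 31 := prim_two (by norm_num) (by norm_num) (by norm_num) (by decide +kernel) (by norm_num)
  exact ⟨fun ho => h 12 (by decide) 10 (by decide) (by decide) 13 11 p13 p11 ⟨z, ho⟩,
    fun ho => h 12 (by decide) 8 (by decide) (by decide) 13 17 p13 p17 ⟨z, ho⟩,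
    fun ho => h 12 (by decide) 5 (by decide) (by decide) 13 31 p13 p31 ⟨z, ho⟩⟩

theorem te6_aux {S : Type} [Group S] [hs : IsSimpleGroup S] (hc : Nat.card S = oTE6)
    (hA : Cfsg.Agent.H943.E7V.Adm S) : False := by
  have hna : ¬ IsMulCommutative S := not_comm_of_card (by
    rw [hc]
    intro hp
    exact absurd ((Nat.prime_dvd_prime_iff_eq Nat.prime_two hp).1 (by decide +kernel)) (by decide +kernel))
  have : Finite S := Nat.finite_of_card_ne_zero (by rw [hc]; decide +kernel)
  obtain ⟨x, hx, hr, hcx⟩ := exists_tab hna (by rw [hc]; decide +kernel)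
  have h1 := tab_all (P := fun x => x.2 != oTE6 || decide (x.1 = .te6 2)) (by decide +kernel) hx
  rw [Bool.or_eq_true, bne_iff_ne, decide_eq_true_eq] at h1
  have h2 := h1.resolve_left fun hne => hne (hcx.symm.trans hc)
  rw [h2] at hr
  obtain ⟨K, _, _, hK, ⟨e⟩⟩ := hr
  obtain ⟨H, hH, -⟩ := Cfsg.Agent.S5744.result (K := K) hK
  obtain ⟨f⟩ := hH 0
  refine Cfsg.Agent.H174.E72.not_omega7 (hA.comap (e.symm.toMonoidHom.comp ((H 0).subtype.comp f.symm.toMonoidHom)) ?_)
  exact e.symm.injective.comp ((H 0).subtype_injective.comp f.symm.injective)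

/-- **`²E₆(2)` is not a subgroup of a subgroup of `E₇(2)`.** -/
theorem notTE6 (M : Subgroup G7) (X : Subgroup ↥M) (hs : IsSimpleGroup ↥X) : Nat.card ↥X ≠ oTE6 :=
  fun hc => te6_aux (hs := hs) hc (Cfsg.Agent.H540.E72.adm_sub M X)

theorem cent_sub {G : Type*} [Group G] [Finite G] {M : Subgroup G} {z : ↥M} {B : ℕ}
    (h : Nat.card (Subgroup.centralizer {(z : G)} : Subgroup G) ∣ B) :
    Nat.card (Subgroup.centralizer {z} : Subgroup ↥M) ∣ B := by
  refine Dvd.dvd.trans ?_ h
  have h1 : (Subgroup.centralizer {z} : Subgroup ↥M).map M.subtype ≤ Subgroup.centralizer {(z : G)} := by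
    rintro _ ⟨y, hy, rfl⟩
    rw [SetLike.mem_coe, Subgroup.mem_centralizer_singleton_iff] at hy
    rw [Subgroup.mem_centralizer_singleton_iff]
    exact congrArg Subtype.val hy
  have h2 := Subgroup.card_dvd_of_le h1
  rwa [← Nat.card_congr ((Subgroup.centralizer {z} : Subgroup ↥M).equivMapOfInjective _
    M.subtype_injective).toEquiv] at h2

/-- **Box X0.** -/
theorem boxX0 : BoxX0 := fun M =>
  { fin := inferInstance
    card := by rw [← card_G7]; exact Subgroup.card_subgroup_dvd_card M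
    c127 := fun z hz => cent_sub (c127 (by rw [Subgroup.orderOf_coe]; exact hz))
    c73 := fun z hz => cent_sub (c73 (by rw [Subgroup.orderOf_coe]; exact hz))
    c43 := fun z hz => cent_sub (c43 (by rw [Subgroup.orderOf_coe]; exact hz))
    c19 := fun z hz => cent_sub (c19 (by rw [Subgroup.orderOf_coe]; exact hz))
    n65 := fun z hz => Cfsg.Agent.H904.E7Main.orderOf_ne z (by rw [Subgroup.orderOf_coe]; exact hz)
    n13 := fun z => by
      have := n13 (z : G7)
      rwa [Subgroup.orderOf_coe] at this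
    notTE6 := fun X hs => notTE6 M X hs }

end Cfsg.Agent.R2.H14.Fr.SubE7
end
end
end
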